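import Cfsg.Agent.H653.HNE.Exact_m3
import Cfsg.Agent.KFacts.HN.Classes
import Cfsg.Agent.Characters.Core
import Cfsg.Agent.H853.ThC.Local_m3
import Cfsg.Agent.Characters.CentralCharacter
import Cfsg.Agent.H447.CTabLam_m3
import Cfsg.Agent.H651.HNF.Raw_m3
import Cfsg.Agent.H996.Eight.Interval
import Cfsg.Agent.FastGrp
import Cfsg.Agent.Prune
set_option linter.all false

section
prune_inst 0x7ffefefbefe8bddfdfff7e3fffd5dffbd7e8effff6dffbfbffedefbfffff6b67ffe5fba5ffefd0ffded7e2b690f87b43ffffeeffec6fdc7ffffd7ff41ffb5f8ff5f7358951dd8cb40fbe0fff03f377ae7f3fffffffffffffffffffffffffffffffffffffffff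

-- part: H653/HNE/Pairs
section
prune_inst 0x1000014000020000040002a0004281510000920000000001040000014800010000a0000080021001008620000980000100003902100000280086004a0500a08ca262c22300b10407000fc0c881180c00000000000000000000000000000000000000000
set_option linter.all false
open scoped Cfsg.Agent.FastGrp

-- part: H653/HNE/LqSize
section
/-!
# Sizes of the classes of 2-elements of `(A5 × A5).2`, Harada-Norton group (helper653)
-/

set_option autoImplicit false
set_option maxRecDepth 100000

namespace Cfsg.Agent.H653.HNE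

open Subgroup
open Cfsg.Agent.HN.XStruct Cfsg.Agent.KFacts.HN Cfsg.Agent.HN.XMat Cfsg.Agent.HN.XInst

def WS : List (List ℕ) := [
  [0, 1, 0, 1, 1], [1, 0, 1, 1, 0], [0, 2, 0, 2, 0, 0, 2, 1], [2, 2, 0, 1, 0, 1, 1, 2],
  [1, 0, 1, 0, 0, 1, 0], [0, 1, 1, 0, 1], [2, 2, 1, 0, 1, 1, 0, 2], [1, 1, 0, 1, 0],
  [0, 2, 0, 0, 2, 1, 0, 2], [0, 1, 0, 2, 2, 1, 0, 0, 2, 1], [2, 0, 0, 2, 1, 0, 2, 0], [2, 0, 1, 0, 2, 1, 1],
  [0, 1, 0, 0, 1, 0, 1], [2, 1, 0, 1, 0, 0, 1, 0], [1, 0, 1, 0, 1, 0], [0, 2, 1, 0, 1, 2, 1, 2, 2],
  [1, 0, 0, 2, 1, 0, 1, 2, 0], [2, 1, 0, 1, 1, 0, 2, 2], [1, 0, 1, 0, 1], [1, 1, 2, 0, 1, 0, 2],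
  [0, 0, 2, 1, 0, 2, 0, 2], [0, 1, 2, 0, 1, 0, 1, 2], [2, 0, 0, 1, 2, 0, 2, 0, 2], [2, 2, 1, 0, 1, 0, 1, 2],
  [1, 2, 0, 1, 0, 1, 2, 0], [1, 2, 2, 1, 2, 2, 1, 2, 2], [0, 1, 0, 1, 2, 0, 1, 2], [0, 0, 2, 0, 0, 1, 0, 1, 1],
  [0, 1, 0, 0, 1, 0, 2, 2, 1], [1, 0, 1, 0, 0, 1, 0, 2], [0, 1, 0, 1, 0, 1], [1, 0, 1, 2, 0, 1, 2, 0],
  [2, 1, 2, 1, 2, 1], [0, 1, 0, 1, 1, 0, 0, 2, 0], [1, 1, 1, 2, 1, 2, 2, 1, 2], [0, 0, 2, 1, 0, 1, 2, 0, 1],
  [0, 1, 0, 2, 1, 0, 1, 0], [1, 2, 0, 1, 0, 2, 1], [0, 2, 1, 0, 2, 0, 2, 0], [2, 1, 0, 1, 0, 1, 2, 2],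
  [1, 0, 0, 1, 0, 2, 1, 0], [0, 0, 1, 2, 0, 2, 0, 2, 2], [0, 2, 0, 0, 2, 2, 1, 2, 0], [1, 2, 1, 2, 1, 2],
  [1, 0, 0, 1, 0, 2, 2, 1, 0], [0, 1, 1, 2, 1, 2, 0, 2, 2], [0, 2, 1, 0, 1, 0, 0, 1], [1, 2, 1, 1, 0, 2, 0, 2],
  [0, 1, 0, 0, 1, 0, 2, 1], [0, 1, 2, 0, 1, 2, 0, 1], [1, 1, 0, 2, 0, 2, 1, 2], [0, 1, 0, 2, 2, 1, 0, 1, 0],
  [0, 0, 2, 0, 0, 2, 2, 1, 2], [1, 0, 2, 1, 0, 1, 0, 0], [0, 0, 1, 0, 2, 2, 1, 0, 1], [1, 2, 0, 1, 2, 0, 1, 0],
  [2, 1, 1, 0, 2, 0, 2, 1], [0, 0, 1, 0, 2, 1, 0, 1], [1, 0, 2, 0, 2, 1, 2, 1], [0, 0, 2, 2, 1, 2, 0, 0, 2]]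

def MSS : List ℕ := [
  15067646097058310657, 9818141049469610241, 11171778497756734465, 17493339840269681523,
  11191765100753388033, 17807303304410304513, 5985551363098117204, 11186947296067659265,
  7170859751933419558, 9825333350172832382, 11235963910673643373, 12009619141553331827,
  13853183573336789505, 9390042678269379076, 16430574360818952705, 11218106079351212562,
  17843462977679985426, 7585392461439342676, 9961997947256449281, 6225418235246879268,
  11179335862409932414, 990269575407083814, 13853281365602339088, 7358953207024092257,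
  16473680044179237485, 9962008627054031435, 1098884882576450340, 6420454914380709476,
  4011138333646134024, 3338335076634329605, 9756239429634359809, 14213471818945233732,
  11187115269820168026, 14807393189429224037, 15067875643737549402, 11818888331197193796,
  7984839955575056247, 9388633741822788138, 11191922266396166160, 6791464447635658849,
  3975061128468830986, 6413489832492836160, 3372924250018677289, 11171848550998388299,
  16942905771158346251, 12349164538274120234, 10682549330970196033, 11973384424476771616,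
  15906260953952033289, 8122840174144258306, 5983912463282865185, 10855279006531631734,
  5162571146857939202, 11197279121545495066, 17871684122896801872, 3529169129709634089,
  11861923654547801378, 7950180473497500753, 7394953101138068515, 2053285222951682587]

def VS : List (List ℕ) := [
  [], [0], [1], [2],
  [0, 0], [0, 1], [0, 2], [1, 1],
  [1, 2], [2, 0], [2, 1], [2, 2],
  [0, 0, 1], [0, 0, 2], [0, 1, 1], [0, 2, 0],
  [0, 2, 1], [0, 2, 2], [1, 1, 1], [1, 1, 2],
  [1, 2, 1], [1, 2, 2], [2, 0, 0], [2, 0, 1],
  [2, 0, 2], [2, 1, 0], [2, 1, 1], [0, 0, 2, 0],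
  [0, 0, 2, 1], [0, 0, 2, 2], [0, 1, 1, 1], [0, 1, 1, 2],
  [0, 2, 0, 0], [0, 2, 0, 2], [0, 2, 1, 0], [0, 2, 1, 1],
  [0, 2, 1, 2], [1, 1, 2, 1], [1, 2, 1, 0], [1, 2, 1, 1],
  [1, 2, 1, 2], [2, 0, 0, 2], [2, 0, 1, 1], [2, 0, 2, 0],
  [2, 0, 2, 2], [2, 1, 1, 1], [0, 0, 2, 0, 0], [0, 0, 2, 0, 1],
  [0, 0, 2, 2, 1], [0, 1, 1, 2, 1], [0, 2, 0, 2, 1], [0, 2, 0, 2, 2],
  [0, 2, 1, 1, 1], [0, 2, 1, 2, 0], [1, 2, 1, 0, 2], [1, 2, 1, 1, 1],
  [1, 2, 1, 2, 0], [1, 2, 1, 2, 1], [2, 0, 2, 2, 0], [2, 1, 1, 1, 2]]

theorem MSS_eq : WS.map mw = MSS := by decide +kernel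
theorem MSS_nodup : MSS.Nodup := by decide +kernel
theorem WS_conj : ∀ i < 60, mw (VS.getD i [] ++ WS.getD i []) = mw (rp 2 ++ VS.getD i []) := by decide +kernel

theorem MSS_clo : allL [0, 1, 2] (fun g => allL MSS fun M => force (mul (mul (gen g) M) (GI.getD g 0)) fun M' =>
    and (Nat.beq (mul M' (gen g)) (mul (gen g) M)) (anyL MSS fun D => Nat.beq M' D)) = true := by decide +kernel

theorem WS_clo {g : ℕ} (hg : g < 3) {w : List ℕ} (hw : w ∈ WS) : ∃ u ∈ WS, e [g] * e w * (e [g])⁻¹ = e u := by
  have h1 : mw w ∈ MSS := by rw [← MSS_eq]; exact List.mem_map_of_mem hw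
  have hg' : g ∈ [0, 1, 2] := by
    interval_cases g <;> simp
  have h3 := (allL_iff _ _).1 ((allL_iff _ _).1 MSS_clo _ hg') _ h1
  rw [force_eq, Bool.and_eq_true, anyL_iff, Nat.beq_eq] at h3
  obtain ⟨h3, D, hD, h4⟩ := h3
  rw [Nat.beq_eq] at h4
  rw [h4] at h3
  rw [← MSS_eq, List.mem_map] at hD
  obtain ⟨u, hu, rfl⟩ := hD
  refine ⟨u, hu, ?_⟩
  rw [mul_inv_eq_iff_eq_mul, ← e_append, ← e_append]
  exact e_eq (by rw [mw_app, mw_app, mw_gen g hg, h3])

theorem WS_clo' (v : List ℕ) {w : List ℕ} (hw : w ∈ WS) : ∃ u ∈ WS, e v * e w * (e v)⁻¹ = e u := by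
  induction v with
  | nil => exact ⟨w, hw, by rw [e_nil]; group⟩
  | cons g v ih =>
    obtain ⟨u, hu, h⟩ := ih
    have h1 : e (g :: v) = e [g] * e v := e_append [g] v
    have h2 : e (g :: v) * e w * (e (g :: v))⁻¹ = e [g] * e u * (e [g])⁻¹ := by
      rw [h1, ← h]; group
    rw [h2]
    rcases Nat.lt_or_ge g 2 with hg | hg
    · exact WS_clo (by omega) hu
    · rw [e_ge g hg]
      exact WS_clo (by norm_num) hu

theorem rp2_mem : ∃ u ∈ WS, mw (rp 2) = mw u := by
  have h1 : mw (rp 2) ∈ MSS := by decide +kernel
  rw [← MSS_eq, List.mem_map] at h1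
  obtain ⟨u, hu, h⟩ := h1
  exact ⟨u, hu, h.symm⟩

theorem card_conj_S : Nat.card {z : Lq // IsConj (e (rp 2)) z} = 60 := by
  apply le_antisymm
  · have h : Nat.card (SL WS) = 60 := by
      rw [card_SL (by rw [MSS_eq]; exact MSS_nodup)]; rfl
    rw [← h]
    refine Nat.card_le_card_of_injective (fun z : {z : Lq // IsConj (e (rp 2)) z} => (⟨z.1, ?_⟩ : SL WS)) ?_
    · obtain ⟨c, hc⟩ := isConj_iff.1 z.2
      obtain ⟨v, rfl⟩ := exists_word c
      obtain ⟨u, hu, h1⟩ := rp2_mem
      obtain ⟨t, ht, h2⟩ := WS_clo' v hu
      refine ⟨t, ht, ?_⟩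
      rw [← e_eq h1] at h2
      rw [← h2]
      exact hc.symm
    · intro a b hab
      have h1 : a.1 = b.1 := congrArg (fun t : SL WS => t.1) hab
      exact Subtype.ext h1
  · exact le_conj (W := WS) (V := VS) (by rw [MSS_eq]; exact MSS_nodup) WS_conj

theorem card_conj_B : Nat.card {z : Lq // IsConj (e (rp 3)) z} = 225 := by
  have h := card_conj (e (rp 3))
  rw [card_cent_B, card_Lq] at h
  omega

theorem card_conj_I : Nat.card {z : Lq // IsConj (e (rp 0)) z} = 1 := by
  have h : ∀ z : {z : Lq // IsConj (e (rp 0)) z}, z.1 = 1 := by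
    rintro ⟨z, hz⟩
    have h1 : IsConj (1 : Lq) z := by rw [← e_nil]; exact hz
    exact isConj_one_right.1 h1
  rw [Nat.card_eq_one_iff_unique]
  exact ⟨⟨fun a b => Subtype.ext ((h a).trans (h b).symm)⟩, ⟨⟨_, IsConj.refl _⟩⟩⟩

theorem TT_eq : TT = centralizer ({e (rp 3)} : Set Lq) := by
  apply Subgroup.eq_of_le_of_card_ge TT_le
  rw [card_TT, card_cent_B]

/-- the words commuting with `[1]` -/
def T8 : List (List ℕ) := TW.filter fun w => Nat.beq (mul (mw w) (mw [1])) (mul (mw [1]) (mw w))

theorem T8_length : T8.length = 8 := by decide +kernel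
theorem T8_nodup : (T8.map mw).Nodup := by decide +kernel

theorem card_cent_C : Nat.card (centralizer ({e (rp 4)} : Set Lq)) = 8 := by
  have h : (centralizer ({e (rp 4)} : Set Lq) : Set Lq) = SL T8 := by
    ext x
    rw [SetLike.mem_coe, mem_centralizer_singleton_iff]
    constructor
    · intro hx
      have h1 : x ∈ TT := by
        rw [TT_eq, mem_centralizer_singleton_iff]
        have h2 : e (rp 3) = e (rp 4) * e (rp 4) := by rw [← e_append]; rfl
        rw [h2, ← mul_assoc, hx, mul_assoc, hx, mul_assoc]
      obtain ⟨w, hw, rfl⟩ := h1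
      refine ⟨w, ?_, rfl⟩
      unfold T8
      rw [List.mem_filter]
      refine ⟨hw, ?_⟩
      rw [← e_append, ← e_append, e_eq_iff, mw_app, mw_app] at hx
      rw [Nat.beq_eq]
      exact hx
    · rintro ⟨w, hw, rfl⟩
      unfold T8 at hw
      rw [List.mem_filter, Nat.beq_eq] at hw
      rw [← e_append, ← e_append, e_eq_iff, mw_app, mw_app]
      exact hw.2
  have h1 : Nat.card (centralizer ({e (rp 4)} : Set Lq)) = Nat.card (SL T8) :=
    congrArg (fun s : Set Lq => Nat.card s) h
  rw [h1, card_SL T8_nodup, T8_length]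

theorem card_conj_C : Nat.card {z : Lq // IsConj (e (rp 4)) z} = 900 := by
  have h := card_conj (e (rp 4))
  rw [card_cent_C, card_Lq] at h
  omega

/-- the sizes of the classes -/
def cls (i : ℕ) : ℕ := [1, 30, 60, 225, 900].getD i 0

theorem card_cls {i : ℕ} (hi : i < 5) : Nat.card {z : Lq // IsConj (e (rp i)) z} = cls i := by
  interval_cases i
  · exact card_conj_I
  · exact card_conj_A
  · exact card_conj_S
  · exact card_conj_B
  · exact card_conj_C

/-- the representatives are not conjugate -/
theorem rp_inj {i j : ℕ} (hi : i < 5) (hj : j < 5) (h : IsConj (e (rp i)) (e (rp j))) : i = j := by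
  have h1 : cls i = cls j := by
    rw [← card_cls hi, ← card_cls hj]
    refine Nat.card_congr
      { toFun := fun z => ⟨z.1, h.symm.trans z.2⟩
        invFun := fun z => ⟨z.1, h.trans z.2⟩
        left_inv := fun _ => rfl
        right_inv := fun _ => rfl }
  interval_cases i <;> interval_cases j <;> first | rfl | exact absurd h1 (by decide)

end Cfsg.Agent.H653.HNE
end

-- part: H653/HNE/Inv
section
/-!
# The involutions of `C(W0)` in the Harada-Norton group (helper653)

`is2A`, `is2B` : the class in `HN` of an involution `ι n * y` from its code `n`.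
-/

set_option autoImplicit false
set_option maxRecDepth 100000

namespace Cfsg.Agent.H653.HNE

open Subgroup
open Cfsg.Agent.HN.XWords Cfsg.Agent.HN.XStruct Cfsg.Agent.KFacts.HN
open Cfsg.Agent.HN.P1408 (eqw)
open Cfsg.Agent.ThType.CSideModel (pw Basis ι lo hi par4 nmul img ι_nmul ι_zero ι_z ι_gen)
open Cfsg.Agent.ThType.CSideWords (ninv ι_ninv ι_congr)

def MI1 : ℕ := 0x22020805a2100060480c8318855005f082002022400030f0810132300140a36022020805a2100060480c8318855005f082002022400030f0810132300140a36
def UI1 : ℕ := 0x4c019b000000000000000000000000002c02db00000000000000000000000000000000000000000000000000000000004403a50000000000000000000000000000000000000000002401610000000000000000000000000000000000000000000000000000000000000000005402690000000000240340002c015d00000000004402d0000000000000000000000000003c0349000000000000000000000000000000000034003400000000000000000000000000000000000000000000000000000000000000000000000000000000000000000000000000000000001c038300340102000000000000000000000000000000000000000000000000001c03430000000000000000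004401d500000000000000000000000000000000000000000000000000000000003c02a0003c01490000000000000000003c03340000000000000000000000000000000000000000003c012000440380000000000000000000000000003c02140054017b000000000000000000000000004402d500000000000000000000000000000000003c01d0000000000024036100000000002c007500000000003403f5000000000000000000000000000000000000000000000000000000000000000000000000003400e7000000000034002500140043004403af004c0382003c038600000000000000000000000000000000004c01d90000000000000000000000000000000000000000002c035d0000000000000000000000000000000000000000000000000000000000000000000000000000000000000000004c012c00000000000000000000000000000000000000000000000000000000001c02ba000000000000000000000000002401ba0000000000000000002c01dc0000000000000000000000000000000000000000000000000000000000000000000000000000000000000000000000000000000000000000000000000000000000340225004c0221000000000000000000000000000000000014030100440305004c0228001c018300000000000000000000000000000000003402c100000000000000000000000000000000000000000000000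000340375000000000000000000000000000000000000000000000000000000000044010b0000000000000000004c00af004c00ae00000000000000000034030200000000000000000000000000440005003402920000000000000000000000000000000000000000000000000000000000000000000000000000000000000000002c03e7000000000034035a000000000000000000000000000000000000000000000000003c022000000000004401ab000000000000000000000000003c02900034029400000000002c00c20008200100000000000000000000000000000000000000000000000000000000004c009b000000000000000000000000002c019400000000000000000000000000000000000000000000000000000000004402a50000000000000000000000000000000000000000002c00610000000000000000000000000000000000000000000000000000000000000000005400f900000000002c02400024005d00000000003c03d0000000000000000000000000003c009000000000000000000000000000000000003c01340000000000000000000000000000000000000000000000000000000000000000000000000000000000000000000000000000000000240283002c0002000000000000000000000000000000000000000000000000001402430000000000000000004400d500000000000000000000000000000000000000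000000000000000000004403a0004400490000000000000000003402340000000000000000000000000000000000000000003c0020003c028000000000000000000000000000340314004c007b000000000000000000000000004403d500000000000000000000000000000000004400d000000000002c026100000000002c03dc00000000003402f5000000000000000000000000000000000000000000000000000000000000000000000000002c01e700000000003c0125001c0143004c02af005402820034028600000000000000000000000000000000004400d900000000000000000000000000000000000000000024025d0000000000000000000000000000000000000000000000000000000000000000000000000000000000000000004c002c00000000000000000000000000000000000000000000000000000000002403ba000000000000000000000000001c00ba0000000000000000003400dc00000000000000000000000000000000000000000000000000000000000000000000000000000000000000000000000000000000000000000000000000000000003c0325004c032100000000000000000000000000000000000c0201004402050054032800240083000000000000000000000000000000000034015a000000000000000000000000000000000000000000000000002c0275000000000000000000000000000000000000000000000000000000000044000b0000000000000000004401af004401ae0000000000000000002c020200000000000000000000000000440396003403920000000000000000000000000000000000000000000000000000000000000000000000000000000000000000003402e700000000003401f5000000000000000000000000000000000000000000000000003c032000000000003c00ab000000000000000000000000003c0390002c039400000000002401c20000000000000000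

def MI2 : ℕ := 0x94491c430084f00962190402220000a06149c1c181a50c00918920105541f5c894491c430084f00962190402220000a06149c1c181a50c00918920105541f5c8
def UI2 : ℕ := 0x4c01fc00000000000000000044003f0000000000340158000000000000000000000000004c0057000000000000000000140366000000000000000000340130000000000000000000000000004403a1003c006e0044006f000000000000000000000000003c0285000000000000000000000000000000000024033c001c000700000000000000000000000000000000000000000000000000000000000000000044005200000000000000000000000000000000003c03f000000000000000000024031e0034031a003403370034000c0000000000000000000000000000000000000000000000000000000000000000001400c000000000000000000014010300000000003c017e003c03fa0000000000000000000000000044036e00000000000000000000000000000000001c03f3003c00700000000000000000002403670000000000000000000000000000000000000000003403300000000000000000000000000000000000000000000000000000000000000000003c0210000000000000000000000000003c0368000000000000000000000000004c03fc000000000000000000000000000000000000000000000000000000000000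00000000000000000000000000000000000000000000000000000000000000000000000000000044023f00000000003400240000000000000000000000000000000000000000000000000034017d002c035000000000000000000000000000000000001402c000000000003c02700000000000000000002403e00000000000000000002c01b00044020a003c020e00000000000000000000000000000000000000000034012d001c0207000c0203000000000000000000000000000000000000000000440087001c0178000000000000000000000000000000000000000000000000002c001e004402e600000000003402cf0000000000000000003c0076000000000024035f00000000000000000000000000000000003c030c0044030800000000000000000000000000000000000000000000000000000000000000000000000000000000003402550000000000000000001c0378000000000000000000000000004c03ec002c0258000000000000000000000000004400f00000000000000000002c03e10000000000000000002c030f0000000000000000000000000000000000000000000000000000000000000000003403060000000000000000000000000000000000000000001c03c300000000004c03ea00000000002c005f00000000003c037e00000000002c01500000000000000000000000000000000000000000002c0373002403b4002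c03b0003c000e0034000f000000000034022400000000003c01aa001c0066002c0067000000000000000000082003000000000000000000000000004400fc0000000000000000003c013f00000000002c0058000000000000000000000000004c01570000000000000000001c02660000000000000000003c0030000000000000000000000000003c02a10044016e004c016f000000000000000000000000003c038500000000000000000000000000000000002c023c0024010700000000000000000000000000000000000000000000000000000000000000000044015200000000000000000000000000000000004402f00000000000000000002c021e002c021a003c0237003c010c0000000000000000000000000000000000000000000000000000000000000000001c01c00000000000000000000c000300000000003c007e003402fa000000000000000000000000003c026e00000000000000000000000000000000002402f3003401700000000000000000002c02670000000000000000000000000000000000000000003c023000000000000000000000000000000000000000000000000000000000000000000034031000000000000000000000000000440268000000000000000000000000004402fc0000000000000000000000000000000000000000000000000000000000000000000000000000000000000000000000000000000000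000000000000000000000000000000003c033f00000000003403160000000000000000000000000000000000000000000000000034037d002c025000000000000000000000000000000000001c03c000000000003403700000000000000000002c02e00000000000000000003400b0003c030a0034030e0000000000000000000000000000000000000000003c002d00240307001403030000000000000000000000000000000000000000004403be002400780000000000000000000000000000000000000000000000000024011e004403e600000000002c03cf0000000000000000003c027600000000002401b4000000000000000000000000000000000034020c0044020800000000000000000000000000000000000000000000000000000000000000000000000000000000003c0355000000000000000000240278000000000000000000000000004402ec00340358000000000000000000000000003c01f00000000000000000003402e100000000000000000034020f0000000000000000000000000000000000000000000000000000000000000000002c02060000000000000000000000000000000000000000002402c300000000004c0038000000000024015f00000000003c027e00000000002c0050000000000000000000000000000000000000000000340273002c02b4003402b00034010e002c010f00000000003c032400000000003c020d0014016600240167000000000000000000000000000000000000000000000000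

def MS1 : ℕ := 0x200000000000000000000000002000000000000000400000400000000000000010000000003000003000000000100000c0000000008000008000000000c0
def US1 : ℕ := 0x1020c500000000000000000000000000000000000000000000000000000000000000000000000000000000000000000000000000000000000000000000000000000000000000000000000000000000000000000000000000000000000000000000000000000000000000000000000000000000000000000000000000000000000000000000000000000000000000000000000000000000000000000000000000000000000000000000000000000000000000000000000000000000000000000000000000000000000000000000000000000000000000000000000000000000000000000000000000000000000000000000000000000000000000000000000000000000000000000000000000000000000000000000000000000000000000000000000000000000000000000000000000000000000000000000000000000000000000000000000000000000000000000000000000000000000000000000000000000000000000000000000000000000000000000000000000000000000000000000000000000000000000000000000000000000000000000000000000000000001820ad000000000000000000000000000000000000000000000000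00000000000000000000000000000000000000000000000000000000000000000000000000000000000000000000000000000000000000000000000000000000000000000000000000000000000000000000000000000000000000000000000000000000000000000000000000000000000000000000000000000000000000000000000000000000000000000000000000000000000000000000000000000000000000000000000000000000000000000000000000000000000000000000000000000000000000000000000000000000000000000000000000000000000000000010206e000000000000000000000000000000000000000000000000000000000000000000000000000000000000000000000000000000000000000000000000000000000000000000000000000000000000000000000000000000000000000000082006000000000000000000000000000000000000000000000000000000000000000000000000000000000000000000000000000000000000000000000000000000000000000000000000000000000000000000000000000000000000000000000000000000000000000000000000000000000000000000000000000000000000000000000000000000000000000000000000000000000000000000000000000000000000000000000000000000000000000000000000000000000000000000000000000000000000000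0000000000000000000000000000000000000000000000000000000000000000000000000000000000000000000000000000000000000000000000000001820c4000000000000000000000000000000000000000000000000000000000000000000000000000000000000000000000000000000000000000000000000000000000000000000000000000000000000000000000000000000000000000000000000000000000000000000000000000000000000000000000000000000000000000000000000000000000000000000000000000000000000000000080406001010ac00000000000000000000000000000000000000000000000000000000000000000000000000000000000000000000000000000000000000000000000000000000000000000000000000000000000000000000000000000000001010c500080806000000000000000000000000000000000000000000000000000000000000000000000000000000000000000000000000000000000000000000000000000000000000000000000000000000000000000000000000000000000000000000000000000000000000000000000000000000000000000000000000000000000000000000000000000000000000000000000000000000000000000000000000001020ac00000000000000000000000000000000000000000000000000000000000000000000000000000000000000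00000000000000000000000000000000000000000000000000000000000000000000000000001008c50008100600000000000000000000000000000000000000000000000000000000000000000000000000000000000000000000000000000000000000000000000000000000000000000000000000000000000000000000000000000000000000000000000000000000000000000000000000000000000000000000000000000000000000000000000000000000000000000000000000000000000000000018206f0000000000000000000000000000000000000000000000000000000000000000000000000000000000000000000000000000000000000000000000000000000000000000000000000000000000000000000000000000000000000000002020070000000000000000000000000000000000000000000000000000000000000000000000000000000000000000000000000000000000000000000000000000000000000000000000000000000000000000000000000000000000000000000000000000000000000000000000000000000000000000000000000000000000000000000000000000000000000000000000000000000000000000000000000018106f00000000000000000000000000000000000000000000000000000000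

def MS2 : ℕ := 0x10000000003000003000000000100000c0000000008000008000000000c00000200000000000000000000000002000000000000000400000400000000000
def US2 : ℕ := 0x1011840000000000000000000000000000000000000000000000000000000000000000000000000000000000000000000000000000000000000000000000000000000000000000000000000000000000000000000000000000000000000000000000000000000000000000000000000000000000000000000000000000000000000000000000000000000000000000000000000000000000000000001020ed001821ec0000000000000000000000000000000000000000000000000000000000000000000000000000000000000000000000000000000000000000000000000000000000000000000000000000000000000000000000000000000000182085001021840000000000000000000000000000000000000000000000000000000000000000000000000000000000000000000000000000000000000000000000000000000000000000000000000000000000000000000000000000000000000000000000000000000000000000000000000000000000000000000000000000000000000000000000000000000000000000000000000000000000000000000000000008082e000000000000000000000000000000000000000000000000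000000000000000000000000000000000000000000000000000000000000000000000000000000000000000000000000000000000000000000182147001020460000000000000000000000000000000000000000000000000000000000000000000000000000000000000000000000000000000000000000000000000000000000000000000000000000000000000000000000000000000000000000000000000000000000000000000000000000000000000000000000000000000000000000000000000000000000000000000000000000000000000000001008ed0000000000000000000000000000000000000000000000000000000000000000000000000000000000000000000000000000000000000000000000000000000000000000000000000000000000000000000000000000000000000000001811470000000000000000000000000000000000000000000000000000000000000000000000000000000000000000000000000000000000000000000000000000000000000000000000000000000000000000000000000000000000000000000000000000000000000000000000000000000000000000000000000000000000000000000000000000000000000000000000000000000000000000000000000020212f0008202e000000000000000000000000000000000000000000000000000000000000000000000000000000000000000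0000000000000000000000000000000000000000000000000000000000000000000000000000000000000000000000000000000000008042e00000000000000000000000000000000000000000000000000000000000000000000000000000000000000000000000000000000000000000000000000000000000000000000000000000000000000000000000000000000000000000000000000000000000000000000000000000000000000000000000000000000000000000000000000000000000000000000000000000000000000000000000000000000000000000000000000000000000000000000000000000000000000000000000000000000000000000000000000000000000000000000000000000000000000000000000000000000000000000000000000000000000000000000000000000000000000000000000000000000000000000000000000000000000000000000000000000000000000000000000000000000000000000000000000000000000000000000000000000000000000000000000000000000000000000000000000000000000000000000000000000000000000000000000000000000000000000000000000000000000000000000000000000000000000000000000000000000001010ed000000000000000000000000000000000000000000000000000000000000000000000000000000000000000000000000000000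00000000000000000000000000000000000000000000000000000000000000000000000000000000000000000000000000000000000000000000000000000000000000000000000000000000000000000000000000000000000000000000000000000000000000000000000000000000000000000000000000000000000000000000000000000000000000000000000000000000000000000000000000000000000000000000000000000000000000000000000000000000000000000000000000000000000008102e00000000000000000000000000000000000000000000000000000000000000000000000000000000000000000000000000000000000000000000000000000000000000000000000000000000000000000000000000000000000000000000000000000000000000000000000000000000000000000000000000000000000000000000000000000000000000000000000000000000000000000000000000000000000000000000000000000000000000000000000000000000000000000000000000000000000000000000000000000000000000000000000000000000000000000000000000000000000000000000000000000000000000000000000000000000000000000000000000000000000000000000000000000000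

def MB1 : ℕ := 0xc0c000000303000003030000c0c0000000000000000000000000000000000000c0c000000303000003030000c0c0
def UB1 : ℕ := 0x1841670018210e000000000000000000000000000000000000000000000000001020070020416e0000000000000000000000000000000000000000000000000000000000000000000000000000000000000000000000000000000000000000000000000000000000000000000000000000000000000000000000000000000000000000000000000000000000000000000000000000000000190167002901660000000000000000000000000000000000000000000000000019006f0019006e0000000000000000000000000000000000000000000000000000000000000000000000000000000000000000000000000000000000000000000000000000000000000000000000000000000000000000000000000000000000190107002101060000000000000000000000000000000000000000000000000019000f0011000e00000000000000000000000000000000000000000000000000000000000000000000000000000000000000000000000000000000000000000000000000000000000804060010090f0000000000000000000000000000000000000000000000000010410f0018410e000000000000000000000000000000000000000000000000000000000000000000000000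000000000000000000000000000000000000000000000000000000000000000000000000000000000000000000000000000000000000000000000000000000000000000000000000000000000000000000000000000000000000000000000000000000000000000000000000000000000000000000000000000000000000000000000000000000000000000000000000000000000000000000000000000000000000000000000000000000000000000000000000000000000000000000000000000000000000000000000000000000000000000000000000000000000000000000000000000000000000000000000000000000000000000000000000000000000000000000000000000000000000000000000000000000000000000000000000000000000000000000000000000000000000000000000000000000000000000000000000000000000000000000000000000000000000000000000000000000000000000000000000000000000000000000000000000000000000000000000000000000000000000000000000000000000000000000000000000000000000000000000000000000000000000000000000000000000000000000000000000000000000000000000000000000000000000000000000000000000000000000000000000000000000000000000000000000000000000000000000000000000000000000000000000000000000000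0000000000000000000000000000000000000000000000000000000000000000000000000000000000010210f001040660000000000000000000000000000000000000000000000000018406f000820060000000000000000000000000000000000000000000000000000000000000000000000000000000000000000000000000000000000000000000000000000000000000000000000000000000000000000000000000000000000000000000000000000000000000000000000000000000000210067001100660000000000000000000000000000000000000000000000000021016f0021016e0000000000000000000000000000000000000000000000000000000000000000000000000000000000000000000000000000000000000000000000000000000000000000000000000000000000000000000000000000000000110007000900060000000000000000000000000000000000000000000000000011010f0019010e0000000000000000000000000000000000000000000000000000000000000000000000000000000000000000000000000000000000000000000000000000000000104007000840060000000000000000000000000000000000000000000000000008080600000000000000000000000000000000000000000000000000000000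

/-- generators without twist -/
def gI0 : List (List ℕ × ℕ) := gI

theorem orbI1 : allN 512 (chk LI' gI0 1 UI1 (fun n => MI1.testBit n)) = true := by decide +kernel
theorem orbI2 : allN 512 (chk LI' gI0 3 UI2 (fun n => MI2.testBit n)) = true := by decide +kernel
theorem orbS1 : allN 512 (chk LS [] 6 US1 (fun n => MS1.testBit n)) = true := by decide +kernel
theorem orbS2 : allN 512 (chk LS [] 46 US2 (fun n => MS2.testBit n)) = true := by decide +kernel
theorem orbB1 : allN 512 (chk LB [] 6 UB1 (fun n => MB1.testBit n)) = true := by decide +kernel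

/-- the involution of class 2A -/
noncomputable abbrev tA : Cfsg.Spor.HN := Cfsg.Agent.HN.NormalH.ψ Cfsg.Agent.HN.H0Basic.τ

theorem tA_V : tA = V [0, 0] := by
  rw [← V_hw (by decide +kernel)]
  exact congrArg _ Cfsg.Agent.HN.H0Basic.hw_τ.symm

end Cfsg.Agent.H653.HNE
end

-- part: H653/HNE/InvCls
section
/-!
# Classes of the involutions of `C(W0)` in the Harada-Norton group (helper653)
-/

set_option autoImplicit false
set_option maxRecDepth 100000

namespace Cfsg.Agent.H653.HNE

open Subgroup
open Cfsg.Agent.HN.XWords Cfsg.Agent.HN.XStruct Cfsg.Agent.KFacts.HN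
open Cfsg.Agent.HN.P1408 (eqw)
open Cfsg.Agent.ThType.CSideModel (pw Basis ι lo hi par4 nmul img ι_nmul ι_zero ι_z ι_gen)
open Cfsg.Agent.ThType.CSideWords (ninv ι_ninv ι_congr)

/-! ### representatives -/

theorem repI1 : IsConj tA (ι W0 bx 1) := by
  have h : ι W0 bx 1 = tA := by
    rw [tA_V, ι_code (n := 1) (l := [0]) (by decide +kernel), ← V_qws]
    exact V_eq (by decide +kernel)
  rw [h]

theorem repI2 : IsConj W0 (ι W0 bx 3) := by
  have h : ι W0 bx 3 = V (qw 0 ++ qw 1) := by
    rw [ι_code (n := 3) (l := [0, 1]) (by decide +kernel), ← V_qws]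
    rfl
  rw [h, W0_eq, ← V_hw (by decide +kernel)]
  exact Cfsg.Agent.HN.NormalH.ψ.map_isConj conj_r3

theorem repS1 : IsConj tA (ι W0 bx 110 * wv yS) := by
  have h : ι W0 bx 110 * wv yS = Cfsg.Agent.KFacts.HN.Classes.x3 := by
    rw [Cfsg.Agent.KFacts.HN.Classes.x3_nf, ι_code (n := 110) (l := [2, 3, 4, 6]) (by decide +kernel),
      wv_Γ (by decide)]
    congr 1
  rw [h]
  exact Cfsg.Agent.KFacts.HN.Classes.isConj_x3

theorem conj_d : IsConj W0 (Cfsg.Agent.HN.NormalH.ψ Cfsg.Agent.HN.Syl.d) := by
  have h1 := Cfsg.Agent.HN.NormalH.ψ.map_isConj conj_x2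
  rw [V_hw (by decide +kernel)] at h1
  exact (Cfsg.Agent.KFacts.HN.YTrick.isConj_x2).trans h1.symm

theorem repS2 : IsConj W0 (ι W0 bx 366 * wv yS) := by
  have h : ι W0 bx 366 * wv yS = V (x3w ++ w0w) := by
    have h1 : ι W0 bx 366 = W0 * ι W0 bx 110 := by
      have h4 := ι_nmul basis 256 110
      rw [ι_z] at h4
      exact h4
    have h2 : ι W0 bx 110 * wv yS = Cfsg.Agent.KFacts.HN.Classes.x3 := by
      rw [Cfsg.Agent.KFacts.HN.Classes.x3_nf, ι_code (n := 110) (l := [2, 3, 4, 6]) (by decide +kernel),
        wv_Γ (by decide)]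
      congr 1
    rw [h1, mul_assoc, h2, V_append, ← Cfsg.Agent.KFacts.HN.Classes.x3_comm]
    rfl
  have h3 := Cfsg.Agent.HN.NormalH.ψ.map_isConj conj_ew
  rw [V_hw (by decide +kernel)] at h3
  rw [h]
  exact conj_d.trans h3

theorem repB1 : IsConj W0 (ι W0 bx 110 * wv yB) := by
  have h : V (ew [0, 0, 1, 1]) * V x2w = ι W0 bx 110 * wv yB * V (ew [0, 0, 1, 1]) := by
    rw [ι_code (n := 110) (l := [1, 0, 2, 0, 4, 6, 1, 3]) (by decide +kernel), wv_Γ (w := yB) (by decide), ← V_qws,
      ← V_ew, ← V_append, ← V_append, ← V_append]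
    exact V_eq (by decide +kernel)
  have h1 : V (ew [0, 0, 1, 1]) * V x2w * (V (ew [0, 0, 1, 1]))⁻¹ = ι W0 bx 110 * wv yB := by
    rw [h, mul_inv_cancel_right]
  exact (Cfsg.Agent.KFacts.HN.YTrick.isConj_x2).trans (isConj_iff.2 ⟨_, h1⟩)

/-! ### orbits -/

theorem isConj_of_orbit {x a b : Cfsg.Spor.HN} (h : ∃ c ∈ PP, c * a * c⁻¹ = b) (hx : IsConj x a) : IsConj x b := by
  obtain ⟨c, -, hc⟩ := h
  exact hx.trans (isConj_iff.2 ⟨c, hc⟩)

theorem gens0 {y : Cfsg.Spor.HN} : ∀ g ∈ ([] : List (List ℕ × ℕ)), ∃ c : Cfsg.Spor.HN, Act c g.1 ∧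
    c * y * c⁻¹ = ι W0 bx g.2 * y := fun _ h => absurd h List.not_mem_nil

theorem clsI1 {n : ℕ} (hn : n < 512) (h : MI1.testBit n = true) : IsConj tA (ι W0 bx n) := by
  have h1 := orbit actI gI0 gensI orbI1 hn h
  rw [wv_yI, mul_one, mul_one] at h1
  exact isConj_of_orbit h1 repI1

theorem clsI2 {n : ℕ} (hn : n < 512) (h : MI2.testBit n = true) : IsConj W0 (ι W0 bx n) := by
  have h1 := orbit actI gI0 gensI orbI2 hn h
  rw [wv_yI, mul_one, mul_one] at h1
  exact isConj_of_orbit h1 repI2

theorem clsS1 {n : ℕ} (hn : n < 512) (h : MS1.testBit n = true) : IsConj tA (ι W0 bx n * wv yS) := by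
  have h1 := orbit actS [] gens0 orbS1 hn h
  have h2 := orbit actS [] gens0 orbS1 (n := 110) (by norm_num) (by decide +kernel)
  obtain ⟨c, hc, h2⟩ := h2
  have h3 : IsConj (ι W0 bx 6 * wv yS) (ι W0 bx 110 * wv yS) := isConj_iff.2 ⟨c, h2⟩
  exact isConj_of_orbit h1 (repS1.trans h3.symm)

theorem clsS2 {n : ℕ} (hn : n < 512) (h : MS2.testBit n = true) : IsConj W0 (ι W0 bx n * wv yS) := by
  have h1 := orbit actS [] gens0 orbS2 hn h
  have h2 := orbit actS [] gens0 orbS2 (n := 366) (by norm_num) (by decide +kernel)
  obtain ⟨c, hc, h2⟩ := h2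
  have h3 : IsConj (ι W0 bx 46 * wv yS) (ι W0 bx 366 * wv yS) := isConj_iff.2 ⟨c, h2⟩
  exact isConj_of_orbit h1 (repS2.trans h3.symm)

theorem clsB1 {n : ℕ} (hn : n < 512) (h : MB1.testBit n = true) : IsConj W0 (ι W0 bx n * wv yB) := by
  have h1 := orbit actB [] gens0 orbB1 hn h
  have h2 := orbit actB [] gens0 orbB1 (n := 110) (by norm_num) (by decide +kernel)
  obtain ⟨c, hc, h2⟩ := h2
  have h3 : IsConj (ι W0 bx 6 * wv yB) (ι W0 bx 110 * wv yB) := isConj_iff.2 ⟨c, h2⟩
  exact isConj_of_orbit h1 (repB1.trans h3.symm)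

/-! ### the five cosets -/

/-- tables of the representatives -/
def LT (i : ℕ) : List ℕ :=
  match i with
  | 0 => LI'
  | 1 => LA
  | 2 => LS
  | 3 => LB
  | _ => LC

/-- codes of the squares of the first four representatives -/
def pp (i : ℕ) : ℕ :=
  match i with
  | 0 => 0
  | 1 => 256
  | 2 => 105
  | _ => 264

/-- codes of 2A involutions -/
def m2A (i : ℕ) : ℕ :=
  match i with
  | 0 => MI1
  | 2 => MS1
  | _ => 0

/-- codes of 2B involutions -/
def m2B (i : ℕ) : ℕ :=
  match i with
  | 0 => Nat.lor MI2 (Nat.shiftLeft 1 256)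
  | 2 => MS2
  | 3 => MB1
  | _ => 0

theorem act_rp {i : ℕ} (hi : i < 5) : Act (wv (rp i)) (LT i) := by
  interval_cases i
  · exact actI
  · exact actA
  · exact actS
  · exact actB
  · exact actC

theorem sq_rp {i : ℕ} (hi : i < 4) : wv (rp i) ^ 2 = ι W0 bx (pp i) := by
  interval_cases i
  · change wv yI ^ 2 = ι W0 bx 0
    rw [wv_yI, one_pow, ι_zero]
  · exact wv_yA_sq
  · exact wv_yS_sq
  · exact wv_yB_sq

theorem sq_i {i : ℕ} (hi : i < 4) (n : ℕ) : (ι W0 bx n * wv (rp i)) ^ 2 = ι W0 bx (s2 (LT i) (pp i) n) :=
  sq_coset (act_rp (by omega)) (sq_rp hi) n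

theorem sq_4 (n : ℕ) : (ι W0 bx n * wv (rp 4)) ^ 2 = ι W0 bx (nmul n (app LC n)) * wv (rp 3) := by
  have h : wv (rp 3) = wv (rp 4) * wv (rp 4) := by rw [← wv_app]; rfl
  rw [ι_nmul basis, ← actC.conj basis n, h, pow_two]
  change _ = ι W0 bx n * (wv (rp 4) * ι W0 bx n * (wv (rp 4))⁻¹) * (wv (rp 4) * wv (rp 4))
  group

theorem four_4 (n : ℕ) : (ι W0 bx n * wv (rp 4)) ^ 4 = ι W0 bx (s4 LC 264 n) :=
  four_coset actC wv_yC_four n

private theorem bm_tab : allN 4 (fun i => allN 512 fun n => Nat.blt (s2 (LT i) (pp i) n) 512) = true ∧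
    allN 4 (fun i => allN 512 fun n => or (not (Nat.beq (s2 (LT i) (pp i) n) 0))
    (or (and (Nat.beq i 0) (Nat.beq n 0)) (or ((m2A i).testBit n) ((m2B i).testBit n)))) = true := by decide +kernel
theorem bound_s2 : allN 4 (fun i => allN 512 fun n => Nat.blt (s2 (LT i) (pp i) n) 512) = true := bm_tab.1
theorem bound_sC : allN 512 (fun n => Nat.blt (nmul n (app LC n)) 512) = true := by decide +kernel

theorem s2_lt {i n : ℕ} (hi : i < 4) (hn : n < 512) : s2 (LT i) (pp i) n < 512 :=
  blt_of ((allN_iff _ _).1 bound_s2 i hi) hn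

theorem tA_sq : tA ^ 2 = 1 := by
  rw [tA_V, pow_two, ← V_append, ← V_nil]
  exact V_eq (by decide +kernel)

theorem tA_ne : tA ≠ 1 := by
  intro h
  have h1 := Cfsg.Agent.KFacts.HN.Classes.card_centralizer_τ
  have h2 : (centralizer ({tA} : Set Cfsg.Spor.HN)) = ⊤ := by
    rw [h, eq_top_iff]
    intro g _
    rw [mem_centralizer_singleton_iff, one_mul, mul_one]
  have h3 : Nat.card (centralizer ({tA} : Set Cfsg.Spor.HN)) = 177408000 := h1
  rw [h2, Subgroup.card_top, Cfsg.Agent.KFacts.HN.Classes.card_HN] at h3
  omega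

theorem not_tA_W0 : ¬ IsConj tA W0 := Cfsg.Agent.KFacts.HN.Classes.not_isConj

theorem masks_cover : allN 4 (fun i => allN 512 fun n => or (not (Nat.beq (s2 (LT i) (pp i) n) 0))
    (or (and (Nat.beq i 0) (Nat.beq n 0)) (or ((m2A i).testBit n) ((m2B i).testBit n)))) = true := bm_tab.2

theorem m2A_sound {i n : ℕ} (hi : i < 5) (hn : n < 512) (h : (m2A i).testBit n = true) :
    IsConj tA (ι W0 bx n * wv (rp i)) := by
  interval_cases i
  · have h1 := clsI1 hn h
    change IsConj tA (ι W0 bx n * 1)
    rwa [mul_one]
  · exact absurd h (by simp [m2A])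
  · exact clsS1 hn h
  · exact absurd h (by simp [m2A])
  · exact absurd h (by simp [m2A])

theorem m2B_sound {i n : ℕ} (hi : i < 5) (hn : n < 512) (h : (m2B i).testBit n = true) :
    IsConj W0 (ι W0 bx n * wv (rp i)) := by
  interval_cases i
  · change IsConj W0 (ι W0 bx n * 1)
    rw [mul_one]
    have h1 : (MI2 ||| (1 <<< 256)).testBit n = true := h
    rw [Nat.testBit_or, Bool.or_eq_true] at h1
    rcases h1 with h1 | h1
    · exact clsI2 hn h1
    · have h2 : n = 256 := by
        rw [Nat.one_shiftLeft, Nat.testBit_two_pow] at h1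
        exact (of_decide_eq_true h1).symm
      rw [h2, ι_z]
  · exact absurd h (by simp [m2B])
  · exact clsS2 hn h
  · exact clsB1 hn h
  · exact absurd h (by simp [m2B])

/-- an involution in a coset is not in the last coset -/
theorem sq_4_ne (n : ℕ) : (ι W0 bx n * wv (rp 4)) ^ 2 ≠ 1 := by
  intro h
  rw [sq_4] at h
  have h1 : wv (rp 3) ∈ RS := by
    rw [mul_eq_one_iff_inv_eq] at h
    rw [← h]
    exact RS.inv_mem (ι_mem _)
  have h2 := (mem_RS_iff (wv_mem (rp 3))).1 h1
  rw [ρ_wv (by decide), ← e_nil, e_eq_iff] at h2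
  exact absurd h2 (by decide +kernel)

theorem one_of_code {n : ℕ} (hn : n < 512) (h : ι W0 bx n = 1) : n = 0 :=
  ι_inj hn (by norm_num) (h.trans ι_zero.symm)

/-- an involution in a coset has a code in a mask -/
theorem cover {i n : ℕ} (hi : i < 5) (hn : n < 512) (h : (ι W0 bx n * wv (rp i)) ^ 2 = 1)
    (h1 : ι W0 bx n * wv (rp i) ≠ 1) : (m2A i).testBit n = true ∨ (m2B i).testBit n = true := by
  rcases Nat.lt_or_ge i 4 with h4 | h4
  · rw [sq_i h4] at h
    have h2 := one_of_code (s2_lt h4 hn) h
    have h3 := (allN_iff _ _).1 ((allN_iff _ _).1 masks_cover i h4) n hn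
    rw [h2, Nat.beq_refl, Bool.not_true, Bool.false_or, Bool.or_eq_true, Bool.or_eq_true, Bool.and_eq_true,
      Nat.beq_eq, Nat.beq_eq] at h3
    rcases h3 with ⟨h5, h6⟩ | h3
    · exfalso
      apply h1
      rw [h5, h6, ι_zero]
      rfl
    · exact h3
  · obtain rfl : i = 4 := by omega
    exact absurd h (sq_4_ne n)

theorem is2A {i n : ℕ} (hi : i < 5) (hn : n < 512) :
    IsConj tA (ι W0 bx n * wv (rp i)) ↔ (m2A i).testBit n = true := by
  refine ⟨fun h => ?_, m2A_sound hi hn⟩
  have h1 : (ι W0 bx n * wv (rp i)) ^ 2 = 1 := by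
    have h2 := h.pow 2
    rw [tA_sq] at h2
    exact isConj_one_right.1 h2
  have h2 : ι W0 bx n * wv (rp i) ≠ 1 := by
    intro h3
    rw [h3] at h
    exact tA_ne (isConj_one_left.1 h)
  rcases cover hi hn h1 h2 with h3 | h3
  · exact h3
  · exact absurd (h.trans (m2B_sound hi hn h3).symm) not_tA_W0

theorem is2B {i n : ℕ} (hi : i < 5) (hn : n < 512) :
    IsConj W0 (ι W0 bx n * wv (rp i)) ↔ (m2B i).testBit n = true := by
  refine ⟨fun h => ?_, m2B_sound hi hn⟩
  have h1 : (ι W0 bx n * wv (rp i)) ^ 2 = 1 := by
    have h2 := h.pow 2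
    rw [pow_two W0, W0_sq] at h2
    exact isConj_one_right.1 h2
  have h2 : ι W0 bx n * wv (rp i) ≠ 1 := by
    intro h3
    rw [h3] at h
    exact W0_ne (isConj_one_left.1 h)
  rcases cover hi hn h1 h2 with h3 | h3
  · exact absurd ((m2A_sound hi hn h3).trans h.symm) not_tA_W0
  · exact h3

end Cfsg.Agent.H653.HNE
end

-- part: H653/HNE/Sums
section
/-!
# Sums of class functions of `C(W0)` over 2-elements, Harada-Norton group (helper653)
-/

set_option autoImplicit false
set_option maxRecDepth 100000

namespace Cfsg.Agent.H653.HNE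

open Subgroup
open Cfsg.Agent.HN.XWords Cfsg.Agent.HN.XStruct Cfsg.Agent.KFacts.HN
open Cfsg.Agent.ThType.CSideModel (pw Basis ι lo hi par4 nmul img ι_nmul ι_zero ι_z ι_gen)
open Cfsg.Agent.ThType.CSideWords (ninv ι_ninv ι_congr)

noncomputable instance fintypePP : Fintype PP := Fintype.ofFinite _

/-- the elements of type `i` -/
abbrev Fib (i : ℕ) : Type := {x : PP // IsConj (e (rp i)) (ρ x)}

/-- the class in the quotient -/
abbrev Cl (i : ℕ) : Type := {u : Lq // IsConj (e (rp i)) u}

noncomputable instance (i : ℕ) : Fintype (Fib i) := Fintype.ofFinite _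
noncomputable instance (i : ℕ) : Fintype (Cl i) := Fintype.ofFinite _

theorem exists_lift {i : ℕ} (u : Cl i) : ∃ g : PP, ρ g * e (rp i) * (ρ g)⁻¹ = u.1 := by
  obtain ⟨c, hc⟩ := isConj_iff.1 u.2
  obtain ⟨g, rfl⟩ := ρ_surj c
  exact ⟨g, hc⟩

/-- a lift -/
noncomputable def lft {i : ℕ} (u : Cl i) : PP := (exists_lift u).choose

theorem lft_spec {i : ℕ} (u : Cl i) : ρ (lft u) * e (rp i) * (ρ (lft u))⁻¹ = u.1 := (exists_lift u).choose_spec

theorem okg_rp {i : ℕ} (hi : i < 5) : okg (rp i) = true := by
  interval_cases i <;> decide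

/-- the element `ι n * y` of `PP` -/
noncomputable def el (i n : ℕ) : PP := ⟨ι W0 bx n * wv (rp i), PP.mul_mem (ι_mem_PP n) (wv_mem (rp i))⟩

theorem ρ_el {i : ℕ} (hi : i < 5) (n : ℕ) : ρ (el i n) = e (rp i) := by
  have h3 : el i n = ⟨ι W0 bx n, ι_mem_PP n⟩ * ⟨wv (rp i), wv_mem (rp i)⟩ := rfl
  rw [h3, map_mul, (mem_RS_iff (ι_mem_PP n)).1 (ι_mem n), one_mul, ρ_wv (okg_rp hi)]

/-- the parametrisation of the elements of type `i` -/
noncomputable def par {i : ℕ} (hi : i < 5) (p : Cl i × Fin 512) : Fib i :=
  ⟨lft p.1 * el i p.2 * (lft p.1)⁻¹, by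
    rw [map_mul, map_mul, map_inv, ρ_el hi]
    rw [lft_spec]
    exact p.1.2⟩

theorem ρ_par {i : ℕ} (hi : i < 5) (p : Cl i × Fin 512) : ρ (par hi p).1 = p.1.1 := by
  change ρ (lft p.1 * el i p.2 * (lft p.1)⁻¹) = _
  rw [map_mul, map_mul, map_inv, ρ_el hi, lft_spec]

theorem par_bij {i : ℕ} (hi : i < 5) : Function.Bijective (par hi) := by
  constructor
  · rintro ⟨u, m⟩ ⟨v, n⟩ h
    have h1 : u = v := by
      have h2 := congrArg (fun x : Fib i => ρ x.1) h
      change ρ (par hi (u, m)).1 = ρ (par hi (v, n)).1 at h2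
      rw [ρ_par, ρ_par] at h2
      exact Subtype.ext h2
    subst h1
    have h2 : lft u * el i m * (lft u)⁻¹ = lft u * el i n * (lft u)⁻¹ := congrArg Subtype.val h
    have h3 : el i m = el i n := mul_left_cancel (mul_right_cancel h2)
    have h4 : ι W0 bx m * wv (rp i) = ι W0 bx n * wv (rp i) := congrArg Subtype.val h3
    rw [Fin.ext (ι_inj m.2 n.2 (mul_right_cancel h4))]
  · rintro ⟨x, hx⟩
    set u : Cl i := ⟨ρ x, hx⟩ with hu
    have h1 : ρ ((lft u)⁻¹ * x * lft u * (⟨wv (rp i), wv_mem (rp i)⟩ : PP)⁻¹) = 1 := by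
      have h2 := lft_spec u
      change _ = ρ x at h2
      rw [map_mul, map_mul, map_mul, map_inv, map_inv, ρ_wv (okg_rp hi), ← h2]
      group
    have h2 : ((lft u)⁻¹ * x * lft u * (⟨wv (rp i), wv_mem (rp i)⟩ : PP)⁻¹ : PP).1 ∈ RS :=
      (mem_RS_iff (Subtype.prop _)).2 h1
    obtain ⟨n, hn, h3⟩ := exists_code h2
    refine ⟨(u, ⟨n, hn⟩), Subtype.ext ?_⟩
    change lft u * el i n * (lft u)⁻¹ = x
    have h4 : el i n = (lft u)⁻¹ * x * lft u := by
      apply Subtype.ext
      change ι W0 bx n * wv (rp i) = _
      rw [← h3]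
      change (((lft u)⁻¹ * x * lft u : PP) : Cfsg.Spor.HN) * (wv (rp i))⁻¹ * wv (rp i) = _
      rw [inv_mul_cancel_right]
    rw [h4]
    group

/-- **sum over a type** -/
theorem sum_fib {i : ℕ} (hi : i < 5) (f : Cfsg.Spor.HN → ℕ) (hf : ∀ c ∈ PP, ∀ x, f (c * x * c⁻¹) = f x) :
    ∑ x : Fib i, f x.1 = cls i * ∑ n : Fin 512, f (ι W0 bx n * wv (rp i)) := by
  rw [← (par_bij hi).sum_comp (fun x : Fib i => f x.1)]
  have h1 : ∀ p : Cl i × Fin 512, f ((par hi p).1 : PP) = f (ι W0 bx p.2 * wv (rp i)) := by
    intro p
    change f ((lft p.1 : Cfsg.Spor.HN) * (ι W0 bx p.2 * wv (rp i)) * (lft p.1 : Cfsg.Spor.HN)⁻¹) = _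
    exact hf _ (lft p.1).2 _
  rw [Fintype.sum_congr _ _ h1, Fintype.sum_prod_type]
  simp only
  rw [Finset.sum_const, Finset.card_univ, ← Nat.card_eq_fintype_card, card_cls hi, smul_eq_mul]

open scoped Classical in
/-- **sum over `PP`** of a class function supported on elements of order dividing eight -/
theorem sum_PP (f : Cfsg.Spor.HN → ℕ) (hf : ∀ c ∈ PP, ∀ x, f (c * x * c⁻¹) = f x)
    (h8 : ∀ x, f x ≠ 0 → x ^ 8 = 1) :
    ∑ x : PP, f x = ∑ i : Fin 5, cls i * ∑ n : Fin 512, f (ι W0 bx n * wv (rp i)) := by
  have h1 : ∀ x : PP, f x = ∑ i : Fin 5, if IsConj (e (rp i)) (ρ x) then f x else 0 := by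
    intro x
    by_cases hx : f x = 0
    · rw [hx]
      simp
    · have h2 : (ρ x) ^ 8 = 1 := by
        rw [← map_pow, ← map_one ρ]
        exact congrArg ρ (Subtype.ext (h8 _ hx))
      obtain ⟨c, j, hj, hc⟩ := to_rep h2
      have h3 : IsConj (e (rp j)) (ρ x) := (isConj_iff.2 ⟨c, hc⟩ : IsConj (ρ x) (e (rp j))).symm
      rw [Finset.sum_eq_single (⟨j, hj⟩ : Fin 5)]
      · rw [if_pos h3]
      · intro i _ hij
        rw [if_neg]
        intro h4
        exact hij (Fin.ext (rp_inj i.2 hj (h4.trans h3.symm)))
      · intro h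
        exact absurd (Finset.mem_univ _) h
  rw [Fintype.sum_congr _ _ h1, Finset.sum_comm]
  refine Fintype.sum_congr _ _ fun i => ?_
  rw [← sum_fib i.2 f hf, ← Finset.sum_filter]
  symm
  refine Finset.sum_bij' (fun x _ => x.1) (fun x hx => ⟨x, (Finset.mem_filter.1 hx).2⟩) ?_ ?_ ?_ ?_ ?_
  · intro x _
    exact Finset.mem_filter.2 ⟨Finset.mem_univ _, x.2⟩
  · intro x _
    exact Finset.mem_univ _
  · intro x _
    rfl
  · intro x _
    rfl
  · intro x _
    rfl

/-- bounded sum -/
def sumN (n : ℕ) (f : ℕ → ℕ) : ℕ := Nat.rec 0 (fun i acc => Nat.add acc (f i)) n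

theorem sumN_eq (n : ℕ) (f : ℕ → ℕ) : sumN n f = ∑ i : Fin n, f i := by
  rw [Fin.sum_univ_eq_sum_range]
  induction n with
  | zero => rfl
  | succ n ih =>
    have h : sumN (n + 1) f = sumN n f + f n := rfl
    rw [h, ih, Finset.sum_range_succ]

/-- one or zero -/
def b2n (b : Bool) : ℕ := bif b then 1 else 0

open scoped Classical in
/-- **counting** -/
theorem count_PP (X : Cfsg.Spor.HN → Prop) (hX : ∀ c ∈ PP, ∀ x, X (c * x * c⁻¹) ↔ X x)
    (h8 : ∀ x, X x → x ^ 8 = 1) (good : ℕ → ℕ → Bool)
    (hg : ∀ i < 5, ∀ n < 512, X (ι W0 bx n * wv (rp i)) ↔ good i n = true) :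
    Nat.card {x : PP // X x} = sumN 5 fun i => Nat.mul (cls i) (sumN 512 fun n => b2n (good i n)) := by
  have h1 := sum_PP (fun x => if X x then 1 else 0) (by
    intro c hc x
    simp only [hX c hc x]) (by
    intro x hx
    by_contra h
    apply hx
    have h2 : ¬ X x := fun h3 => h (h8 x h3)
    simp only [h2, if_false])
  have h2 : Nat.card {x : PP // X x} = ∑ x : PP, if X x then 1 else 0 := by
    rw [Nat.card_eq_fintype_card, Fintype.card_subtype, Finset.card_filter]
  have h6 : (∑ x : PP, if X x then 1 else 0) =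
      ∑ i : Fin 5, cls i * ∑ n : Fin 512, (if X (ι W0 bx n * wv (rp i)) then 1 else 0) := h1
  have h7 := sumN_eq 5 (fun i => Nat.mul (cls i) (sumN 512 fun n => b2n (good i n)))
  refine (h2.trans h6).trans (Eq.trans ?_ h7.symm)
  refine Fintype.sum_congr _ _ fun i => ?_
  have h8 := sumN_eq 512 (fun n => b2n (good i n))
  refine congrArg (fun t => cls i * t) (Eq.trans ?_ h8.symm)
  refine Fintype.sum_congr _ _ fun n => ?_
  have h3 := hg i i.2 n n.2
  unfold b2n
  cases h4 : good i n
  · rw [h4] at h3
    have h5 : ¬ X (ι W0 bx n * wv (rp i)) := fun h => absurd (h3.1 h) (by decide)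
    simp only [h5, if_false, cond_false]
  · have h5 : X (ι W0 bx n * wv (rp i)) := h3.2 h4
    simp only [h5, if_true, cond_true]

end Cfsg.Agent.H653.HNE
end

-- part: H653/HNE/Counts
section
/-!
# Numbers of 2-elements of `C(W0)` by class, Harada-Norton group (helper653)

`n2B = 8311`, `n2A = 1080`, `nSqA = 48000`, `nFourA = 230400`, `nSqB = 162000`, `nFourB = 172800`, and the number of
commuting pairs `nPair = 17040`.
-/

set_option autoImplicit false
set_option maxRecDepth 100000

namespace Cfsg.Agent.H653.HNE

open Subgroup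
open Cfsg.Agent.HN.XWords Cfsg.Agent.HN.XStruct Cfsg.Agent.KFacts.HN
open Cfsg.Agent.HN.XMat (force force_eq)
open Cfsg.Agent.ThType.CSideModel (pw Basis ι lo hi par4 nmul img ι_nmul ι_zero ι_z ι_gen)
open Cfsg.Agent.ThType.CSideWords (ninv ι_ninv ι_congr)

theorem isConj_conj_iff {G : Type*} [Group G] {a x : G} (c : G) : IsConj a (c * x * c⁻¹) ↔ IsConj a x := by
  have h : IsConj x (c * x * c⁻¹) := isConj_iff.2 ⟨c, rfl⟩
  exact ⟨fun h1 => h1.trans h.symm, fun h1 => h1.trans h⟩

theorem pow_eight_of_conj {a x : Cfsg.Spor.HN} {k l : ℕ} (ha : a ^ 2 = 1) (hk : k * 2 * l = 8) (h : IsConj a (x ^ k)) :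
    x ^ 8 = 1 := by
  have h1 := h.pow 2
  rw [ha] at h1
  have h2 := isConj_one_right.1 h1
  rw [← hk, pow_mul, pow_mul, h2, one_pow]

theorem W0_sq' : W0 ^ 2 = 1 := by rw [pow_two, W0_sq]

/-- predicates on codes -/
def g2B (i n : ℕ) : Bool := (m2B i).testBit n
def g2A (i n : ℕ) : Bool := (m2A i).testBit n
def gSqA (i n : ℕ) : Bool := bif Nat.blt i 4 then (m2A 0).testBit (s2 (LT i) (pp i) n) else false
def gFourA (i n : ℕ) : Bool :=
  bif Nat.blt i 4 then (m2A 0).testBit (sq (s2 (LT i) (pp i) n)) else (m2A 0).testBit (s4 LC 264 n)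
def gSqB (i n : ℕ) : Bool :=
  bif Nat.blt i 4 then (m2B 0).testBit (s2 (LT i) (pp i) n) else (m2B 3).testBit (nmul n (app LC n))
def gFourB (i n : ℕ) : Bool :=
  bif Nat.blt i 4 then (m2B 0).testBit (sq (s2 (LT i) (pp i) n)) else (m2B 0).testBit (s4 LC 264 n)

theorem c2B : sumN 5 (fun i => Nat.mul (cls i) (sumN 512 fun n => b2n (g2B i n))) = 8311 := by decide +kernel
theorem c2A : sumN 5 (fun i => Nat.mul (cls i) (sumN 512 fun n => b2n (g2A i n))) = 1080 := by decide +kernel
private theorem cAll : sumN 5 (fun i => Nat.mul (cls i) (sumN 512 fun n => b2n (gSqA i n))) = 48000 ∧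
    sumN 5 (fun i => Nat.mul (cls i) (sumN 512 fun n => b2n (gFourA i n))) = 230400 ∧
    sumN 5 (fun i => Nat.mul (cls i) (sumN 512 fun n => b2n (gSqB i n))) = 162000 ∧
    sumN 5 (fun i => Nat.mul (cls i) (sumN 512 fun n => b2n (gFourB i n))) = 172800 := by decide +kernel
theorem cSqA : sumN 5 (fun i => Nat.mul (cls i) (sumN 512 fun n => b2n (gSqA i n))) = 48000 := cAll.1
theorem cFourA : sumN 5 (fun i => Nat.mul (cls i) (sumN 512 fun n => b2n (gFourA i n))) = 230400 := cAll.2.1
theorem cSqB : sumN 5 (fun i => Nat.mul (cls i) (sumN 512 fun n => b2n (gSqB i n))) = 162000 := cAll.2.2.1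
theorem cFourB : sumN 5 (fun i => Nat.mul (cls i) (sumN 512 fun n => b2n (gFourB i n))) = 172800 := cAll.2.2.2

theorem n2B : Nat.card {x : PP // IsConj W0 (x : Cfsg.Spor.HN)} = 8311 := by
  rw [← c2B]
  exact count_PP (fun x => IsConj W0 x) (fun c _ x => isConj_conj_iff c)
    (fun x hx => pow_eight_of_conj (k := 1) (l := 4) W0_sq' rfl (by rw [pow_one]; exact hx)) g2B
    (fun i hi n hn => is2B hi hn)

theorem n2A : Nat.card {x : PP // IsConj tA (x : Cfsg.Spor.HN)} = 1080 := by
  rw [← c2A]
  exact count_PP (fun x => IsConj tA x) (fun c _ x => isConj_conj_iff c)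
    (fun x hx => pow_eight_of_conj (k := 1) (l := 4) tA_sq rfl (by rw [pow_one]; exact hx)) g2A
    (fun i hi n hn => is2A hi hn)

theorem is2A_code {n : ℕ} (hn : n < 512) : IsConj tA (ι W0 bx n) ↔ (m2A 0).testBit n = true := by
  have h := is2A (i := 0) (by norm_num) hn
  have h1 : wv (rp 0) = 1 := rfl
  rw [h1, mul_one] at h
  exact h

theorem is2B_code {n : ℕ} (hn : n < 512) : IsConj W0 (ι W0 bx n) ↔ (m2B 0).testBit n = true := by
  have h := is2B (i := 0) (by norm_num) hn
  have h1 : wv (rp 0) = 1 := rfl
  rw [h1, mul_one] at h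
  exact h

theorem sC_lt {n : ℕ} (hn : n < 512) : nmul n (app LC n) < 512 := blt_of bound_sC hn

theorem blt4 {i : ℕ} (h : i < 4) : Nat.blt i 4 = true := by simpa using h

theorem four_i {i : ℕ} (hi : i < 4) (n : ℕ) : (ι W0 bx n * wv (rp i)) ^ 4 = ι W0 bx (sq (s2 (LT i) (pp i) n)) := by
  rw [pow4, sq_i hi, ι_sq]

theorem nSqA : Nat.card {x : PP // IsConj tA ((x : Cfsg.Spor.HN) ^ 2)} = 48000 := by
  rw [← cSqA]
  refine count_PP (fun x => IsConj tA (x ^ 2)) (fun c _ x => by rw [conj_pow]; exact isConj_conj_iff c)
    (fun x hx => pow_eight_of_conj (k := 2) (l := 2) tA_sq rfl hx) gSqA (fun i hi n hn => ?_)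
  unfold gSqA
  rcases Nat.lt_or_ge i 4 with h | h
  · rw [blt4 h, cond_true, sq_i h]
    exact is2A_code (s2_lt h hn)
  · obtain rfl : i = 4 := by omega
    rw [show Nat.blt 4 4 = false from rfl, cond_false, sq_4]
    rw [is2A (i := 3) (by norm_num) (sC_lt hn)]
    have h1 : (m2A 3).testBit (nmul n (app LC n)) = false := Nat.zero_testBit _
    rw [h1]

theorem nSqB : Nat.card {x : PP // IsConj W0 ((x : Cfsg.Spor.HN) ^ 2)} = 162000 := by
  rw [← cSqB]
  refine count_PP (fun x => IsConj W0 (x ^ 2)) (fun c _ x => by rw [conj_pow]; exact isConj_conj_iff c)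
    (fun x hx => pow_eight_of_conj (k := 2) (l := 2) W0_sq' rfl hx) gSqB (fun i hi n hn => ?_)
  unfold gSqB
  rcases Nat.lt_or_ge i 4 with h | h
  · rw [blt4 h, cond_true, sq_i h]
    exact is2B_code (s2_lt h hn)
  · obtain rfl : i = 4 := by omega
    rw [show Nat.blt 4 4 = false from rfl, cond_false, sq_4]
    exact is2B (i := 3) (by norm_num) (sC_lt hn)

theorem nFourA : Nat.card {x : PP // IsConj tA ((x : Cfsg.Spor.HN) ^ 4)} = 230400 := by
  rw [← cFourA]
  refine count_PP (fun x => IsConj tA (x ^ 4)) (fun c _ x => by rw [conj_pow]; exact isConj_conj_iff c)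
    (fun x hx => pow_eight_of_conj (k := 4) (l := 1) tA_sq rfl hx) gFourA (fun i hi n hn => ?_)
  unfold gFourA
  rcases Nat.lt_or_ge i 4 with h | h
  · rw [blt4 h, cond_true, four_i h]
    exact is2A_code (sq_lt _)
  · obtain rfl : i = 4 := by omega
    rw [show Nat.blt 4 4 = false from rfl, cond_false, four_4]
    exact is2A_code (blt_of boundC hn)

theorem nFourB : Nat.card {x : PP // IsConj W0 ((x : Cfsg.Spor.HN) ^ 4)} = 172800 := by
  rw [← cFourB]
  refine count_PP (fun x => IsConj W0 (x ^ 4)) (fun c _ x => by rw [conj_pow]; exact isConj_conj_iff c)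
    (fun x hx => pow_eight_of_conj (k := 4) (l := 1) W0_sq' rfl hx) gFourB (fun i hi n hn => ?_)
  unfold gFourB
  rcases Nat.lt_or_ge i 4 with h | h
  · rw [blt4 h, cond_true, four_i h]
    exact is2B_code (sq_lt _)
  · obtain rfl : i = 4 := by omega
    rw [show Nat.blt 4 4 = false from rfl, cond_false, four_4]
    exact is2B_code (blt_of boundC hn)

end Cfsg.Agent.H653.HNE
end

-- part: H653/HNE/Pairs
section
/-!
# 2-central involutions commuting with an element of class 4A, Harada-Norton group (helper653)

`B2_4A` : 71 conjugates of `W0` commute with `R4A`.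
-/

set_option autoImplicit false
set_option maxRecDepth 100000

namespace Cfsg.Agent.H653.HNE

open Subgroup
open Cfsg.Agent.HN.XWords Cfsg.Agent.HN.XStruct Cfsg.Agent.KFacts.HN
open Cfsg.Agent.HN.XMat (force force_eq)
open Cfsg.Agent.ThType.CSideModel (pw Basis ι lo hi par4 nmul img ι_nmul ι_zero ι_z ι_gen)
open Cfsg.Agent.ThType.CSideWords (ninv ι_ninv ι_congr)

/-- the number of conjugates of `W0` commuting with `g` -/
noncomputable def B2 (g : Cfsg.Spor.HN) : ℕ := Nat.card {t : Cfsg.Spor.HN // IsConj W0 t ∧ Commute t g}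

theorem commute_conj_iff {G : Type*} [Group G] {a b : G} (c : G) : Commute (c * a * c⁻¹) (c * b * c⁻¹) ↔ Commute a b := by
  constructor
  · intro h
    have h1 : c * a * c⁻¹ * (c * b * c⁻¹) = c * b * c⁻¹ * (c * a * c⁻¹) := h
    change a * b = b * a
    calc a * b = c⁻¹ * (c * a * c⁻¹ * (c * b * c⁻¹)) * c := by group
      _ = c⁻¹ * (c * b * c⁻¹ * (c * a * c⁻¹)) * c := by rw [h1]
      _ = b * a := by group
  · intro h
    have h1 : a * b = b * a := h
    change c * a * c⁻¹ * (c * b * c⁻¹) = c * b * c⁻¹ * (c * a * c⁻¹)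
    calc c * a * c⁻¹ * (c * b * c⁻¹) = c * (a * b) * c⁻¹ := by group
      _ = c * b * c⁻¹ * (c * a * c⁻¹) := by rw [h1]; group

theorem card_comm_conj {G : Type*} [Group G] (b a : G) (c : G) :
    Nat.card {t : G // IsConj b t ∧ Commute t (c * a * c⁻¹)} = Nat.card {t : G // IsConj b t ∧ Commute t a} := by
  refine Nat.card_congr
    { toFun := fun t => ⟨c⁻¹ * t.1 * c, ?_, ?_⟩
      invFun := fun t => ⟨c * t.1 * c⁻¹, (isConj_conj_iff c).2 t.2.1, (commute_conj_iff c).2 t.2.2⟩
      left_inv := fun t => Subtype.ext (by group)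
      right_inv := fun t => Subtype.ext (by group) }
  · have h := (isConj_conj_iff (a := b) (x := t.1) c⁻¹).2 t.2.1
    rwa [inv_inv] at h
  · have h := (commute_conj_iff (a := t.1) (b := c * a * c⁻¹) c⁻¹).2 t.2.2
    have h1 : c⁻¹ * (c * a * c⁻¹) * c⁻¹⁻¹ = a := by group
    rw [h1, inv_inv] at h
    exact h

theorem B2_conj {a b : Cfsg.Spor.HN} (h : IsConj a b) : B2 a = B2 b := by
  obtain ⟨c, rfl⟩ := isConj_iff.1 h
  exact (card_comm_conj W0 a c).symm

/-- the 240 elements of order 4 of `O₂(C(W0))` -/
def SA : Set Cfsg.Spor.HN := {g | ∃ c ∈ PP, c * R4A * c⁻¹ = g}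

theorem mem_SA {g : Cfsg.Spor.HN} : g ∈ SA ↔ ∃ m < 512, goodI m = true ∧ g = ι W0 bx m := by
  constructor
  · rintro ⟨c, hc, rfl⟩
    have hq : c * R4A * c⁻¹ ∈ RS := conj_RS hc (ι_mem 17)
    obtain ⟨n, hn, h⟩ := exists_code hq
    refine ⟨n, hn, ?_, h⟩
    have h2 : ι W0 bx n ^ 2 = W0 := by
      rw [← h]
      exact conj_pow_W0 hc R4A_sq
    have h3 := sq_coset actI (p := 0) (by rw [wv_yI, one_pow, ι_zero]) n
    rw [wv_yI, mul_one, h2] at h3
    have h4 := ι_eq_z (blt_of boundI hn) h3.symm
    unfold goodI
    rw [Nat.beq_eq]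
    exact h4
  · rintro ⟨m, hm, hg, rfl⟩
    exact orbit_I hm hg

theorem SA_sq {g : Cfsg.Spor.HN} (h : g ∈ SA) : g ^ 2 = W0 := by
  obtain ⟨c, hc, rfl⟩ := h
  exact conj_pow_W0 hc R4A_sq

theorem SA_conj {c : Cfsg.Spor.HN} (hc : c ∈ PP) {g : Cfsg.Spor.HN} : c * g * c⁻¹ ∈ SA ↔ g ∈ SA := by
  constructor
  · rintro ⟨d, hd, h⟩
    refine ⟨c⁻¹ * d, PP.mul_mem (PP.inv_mem hc) hd, ?_⟩
    calc c⁻¹ * d * R4A * (c⁻¹ * d)⁻¹ = c⁻¹ * (d * R4A * d⁻¹) * c := by group
      _ = g := by rw [h]; group
  · rintro ⟨d, hd, rfl⟩
    exact ⟨c * d, PP.mul_mem hc hd, by group⟩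

/-- number of elements of `SA` commuting with `x` -/
noncomputable def HS (x : Cfsg.Spor.HN) : ℕ := Nat.card {g : Cfsg.Spor.HN // g ∈ SA ∧ Commute x g}

theorem HS_conj {c : Cfsg.Spor.HN} (hc : c ∈ PP) (x : Cfsg.Spor.HN) : HS (c * x * c⁻¹) = HS x := by
  refine Nat.card_congr
    { toFun := fun t => ⟨c⁻¹ * t.1 * c, ?_, ?_⟩
      invFun := fun t => ⟨c * t.1 * c⁻¹, (SA_conj hc).2 t.2.1, (commute_conj_iff c).2 t.2.2⟩
      left_inv := fun t => Subtype.ext (by group)
      right_inv := fun t => Subtype.ext (by group) }
  · have h := (SA_conj (PP.inv_mem hc) (g := t.1)).2 t.2.1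
    rwa [inv_inv] at h
  · have h := (commute_conj_iff (a := c * x * c⁻¹) (b := t.1) c⁻¹).2 t.2.2
    have h1 : c⁻¹ * (c * x * c⁻¹) * c⁻¹⁻¹ = x := by group
    rw [h1, inv_inv] at h
    exact h

/-- the check of commutation -/
def cmt (i n m : ℕ) : Bool := Nat.beq (Nat.mod (nmul (nmul n (app (LT i) m)) (ninv n)) 512) m

theorem cmt_iff {i : ℕ} (hi : i < 5) (n : ℕ) {m : ℕ} (hm : m < 512) :
    Commute (ι W0 bx n * wv (rp i)) (ι W0 bx m) ↔ cmt i n m = true := by
  have h1 : (ι W0 bx n * wv (rp i)) * ι W0 bx m * (ι W0 bx n * wv (rp i))⁻¹ =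
      ι W0 bx ((nmul (nmul n (app (LT i) m)) (ninv n)) % 512) := by
    rw [ι_mod, ι_nmul basis, ι_nmul basis, ι_ninv basis, ← (act_rp hi).conj basis m]
    group
  unfold cmt
  rw [Nat.beq_eq]
  change _ * _ = _ * _ ↔ _ % 512 = m
  constructor
  · intro h
    rw [h, mul_inv_cancel_right] at h1
    exact (ι_inj hm (Nat.mod_lt _ (by norm_num)) h1).symm
  · intro h
    rw [h, mul_inv_eq_iff_eq_mul] at h1
    exact h1

theorem card_bool (p : ℕ → Bool) : Nat.card {m : Fin 512 // p m = true} = sumN 512 (fun m => b2n (p m)) := by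
  rw [sumN_eq, Nat.card_eq_fintype_card, Fintype.card_subtype, Finset.card_filter]
  refine Fintype.sum_congr _ _ fun m => ?_
  unfold b2n
  cases p m <;> rfl

theorem HS_code {i : ℕ} (hi : i < 5) (n : ℕ) :
    HS (ι W0 bx n * wv (rp i)) = sumN 512 (fun m => b2n (and (goodI m) (cmt i n m))) := by
  rw [← card_bool]
  symm
  refine Nat.card_congr (Equiv.ofBijective (fun m => ⟨ι W0 bx m.1, ?_, ?_⟩) ⟨?_, ?_⟩)
  · have h := m.2
    rw [Bool.and_eq_true] at h
    exact mem_SA.2 ⟨m.1, m.1.2, h.1, rfl⟩
  · have h := m.2
    rw [Bool.and_eq_true] at h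
    exact (cmt_iff hi n m.1.2).2 h.2
  · intro a b hab
    have h1 : ι W0 bx a.1 = ι W0 bx b.1 := congrArg Subtype.val hab
    exact Subtype.ext (Fin.ext (ι_inj a.1.2 b.1.2 h1))
  · rintro ⟨g, hg, hc⟩
    obtain ⟨m, hm, h1, rfl⟩ := mem_SA.1 hg
    refine ⟨⟨⟨m, hm⟩, ?_⟩, rfl⟩
    rw [Bool.and_eq_true]
    exact ⟨h1, (cmt_iff hi n hm).1 hc⟩

/-- the product with the parity from a table -/
private def nmF (m n : ℕ) : ℕ := Nat.xor (Nat.xor m n)
  (Nat.shiftLeft (Nat.land (Nat.shiftRight 27030 (Nat.land (Nat.land (Nat.shiftRight m 4) n) 15)) 1) 8)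

private theorem par4_eq (k : ℕ) : par4 k = Nat.land (Nat.shiftRight 27030 (Nat.land k 15)) 1 := by
  have h : ∀ j < 16, par4 j = Nat.land (Nat.shiftRight 27030 j) 1 := by decide +kernel
  rw [← h (Nat.land k 15) (Nat.lt_succ_of_le Nat.and_le_right)]
  refine Nat.eq_of_testBit_eq fun i => ?_
  have h1 : ∀ j < 4, (Nat.land k 15).testBit j = k.testBit j := fun j hj => by
    have h2 : ∀ j < 4, Nat.testBit 15 j = true := by decide
    show (k &&& 15).testBit j = _
    rw [Nat.testBit_and, h2 j hj, Bool.and_true]
  rw [Cfsg.Agent.ThType.CSideModel.par4_testBit, Cfsg.Agent.ThType.CSideModel.par4_testBit, h1 0 (by decide),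
    h1 1 (by decide), h1 2 (by decide), h1 3 (by decide)]

private theorem cmt_eq (i n m : ℕ) :
    cmt i n m = Nat.beq (Nat.mod (nmF (nmF n (app (LT i) m)) (ninv n)) 512) m := by
  have h : ∀ x y, nmul x y = nmF x y := fun x y => by
    unfold nmF
    rw [← par4_eq]
    rfl
  rw [← h, ← h]
  rfl

/-- the numbers below `n` with the property `p` -/
private noncomputable def fl (p : ℕ → Bool) (n : ℕ) : List ℕ := Nat.rec [] (fun k ih => Bool.rec ih (k :: ih) (p k)) n

/-- the number of entries with the property `q` -/
private noncomputable def cntL (q : ℕ → Bool) (l : List ℕ) : ℕ := List.rec 0 (fun m _ ih => Bool.rec ih (Nat.succ ih) (q m)) l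

private theorem sum_fl (p q : ℕ → Bool) (n : ℕ) : sumN n (fun m => b2n (and (p m) (q m))) = cntL q (fl p n) := by
  induction n with
  | zero => rfl
  | succ n ih =>
    have h1 : sumN (n + 1) (fun m => b2n (and (p m) (q m))) =
      sumN n (fun m => b2n (and (p m) (q m))) + b2n (and (p n) (q n)) := rfl
    have h2 : fl p (n + 1) = Bool.rec (fl p n) (n :: fl p n) (p n) := rfl
    have h3 : cntL q (n :: fl p n) = Bool.rec (cntL q (fl p n)) (Nat.succ (cntL q (fl p n))) (q n) := rfl
    rw [h1, h2, ih]
    cases p n
    · rfl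
    · refine Eq.trans ?_ h3.symm
      cases q n <;> rfl

theorem c7 : sumN 5 (fun i => Nat.mul (cls i) (sumN 512 fun n =>
    bif g2B i n then sumN 512 (fun m => b2n (and (goodI m) (cmt i n m))) else 0)) = 17040 := by
  simp only [cmt_eq, sum_fl]
  decide +kernel

instance finHN : Finite Cfsg.Spor.HN := Cfsg.Agent.KFacts.HN.YTrick.finiteHN

open scoped Classical in
/-- the number of commuting pairs -/
theorem sum_pairs : (∑ x : PP, if IsConj W0 (x : Cfsg.Spor.HN) then HS x else 0) = 17040 := by
  have h1 := sum_PP (fun x => if IsConj W0 x then HS x else 0) (by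
    intro c hc x
    simp only [HS_conj hc x, isConj_conj_iff c]) (by
    intro x hx
    by_cases h : IsConj W0 x
    · exact pow_eight_of_conj (k := 1) (l := 4) W0_sq' rfl (by rw [pow_one]; exact h)
    · exfalso
      apply hx
      simp only [h, if_false])
  have h2 : (∑ x : PP, if IsConj W0 (x : Cfsg.Spor.HN) then HS x else 0) =
      ∑ i : Fin 5, cls i * ∑ n : Fin 512, (if IsConj W0 (ι W0 bx n * wv (rp i)) then
        HS (ι W0 bx n * wv (rp i)) else 0) := h1
  rw [h2, ← c7]
  have h7 := sumN_eq 5 (fun i => Nat.mul (cls i) (sumN 512 fun n =>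
    bif g2B i n then sumN 512 (fun m => b2n (and (goodI m) (cmt i n m))) else 0))
  refine Eq.trans ?_ h7.symm
  refine Fintype.sum_congr _ _ fun i => ?_
  have h8 := sumN_eq 512 (fun n => bif g2B i n then sumN 512 (fun m => b2n (and (goodI m) (cmt i n m))) else 0)
  refine congrArg (fun t => cls i * t) (Eq.trans ?_ h8.symm)
  refine Fintype.sum_congr _ _ fun n => ?_
  rw [HS_code i.2]
  have h3 := is2B i.2 n.2
  change _ ↔ g2B i n = true at h3
  cases h4 : g2B i n
  · rw [h4] at h3
    have h5 : ¬ IsConj W0 (ι W0 bx n * wv (rp i)) := fun h => absurd (h3.1 h) (by decide)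
    simp only [h5, if_false, cond_false]
  · have h5 : IsConj W0 (ι W0 bx n * wv (rp i)) := h3.2 h4
    simp only [h5, if_true, cond_true]

/-- **class 4A** -/
theorem B2_4A : B2 R4A = 71 := by
  classical
  have hf : ∀ g : SA, Nat.card {x : PP // IsConj W0 (x : Cfsg.Spor.HN) ∧ Commute (x : Cfsg.Spor.HN) g} = B2 R4A := by
    rintro ⟨g, hg⟩
    have h1 : IsConj R4A g := by
      obtain ⟨c, -, hc⟩ := hg
      exact isConj_iff.2 ⟨c, hc⟩
    rw [B2_conj h1]
    refine Nat.card_congr
      { toFun := fun x => ⟨x.1, x.2⟩
        invFun := fun t => ⟨⟨t.1, mem_PP.2 ?_⟩, t.2⟩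
        left_inv := fun _ => rfl
        right_inv := fun _ => rfl }
    have h := (t.2.2.pow_right 2).eq
    rw [SA_sq hg] at h
    exact h
  have h1 : Nat.card {p : PP × SA // IsConj W0 (p.1 : Cfsg.Spor.HN) ∧ Commute (p.1 : Cfsg.Spor.HN) p.2} =
      240 * B2 R4A := by
    have e : {p : PP × SA // IsConj W0 (p.1 : Cfsg.Spor.HN) ∧ Commute (p.1 : Cfsg.Spor.HN) p.2} ≃
        Σ g : SA, {x : PP // IsConj W0 (x : Cfsg.Spor.HN) ∧ Commute (x : Cfsg.Spor.HN) g} :=
      { toFun := fun p => ⟨p.1.2, ⟨p.1.1, p.2⟩⟩
        invFun := fun p => ⟨(p.2.1, p.1), p.2.2⟩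
        left_inv := fun _ => rfl
        right_inv := fun _ => rfl }
    have hSA : Nat.card SA = 240 := by
      rw [← count240, ← Nat.card_eq_fintype_card]
      symm
      refine Nat.card_congr (Equiv.ofBijective (fun m => ⟨ι W0 bx m.1, mem_SA.2 ⟨m.1, m.1.2, m.2, rfl⟩⟩) ⟨?_, ?_⟩)
      · intro a b hab
        have h1 : ι W0 bx a.1 = ι W0 bx b.1 := congrArg Subtype.val hab
        exact Subtype.ext (Fin.ext (ι_inj a.1.2 b.1.2 h1))
      · rintro ⟨g, hg⟩
        obtain ⟨m, hm, h1, rfl⟩ := mem_SA.1 hg
        exact ⟨⟨⟨m, hm⟩, h1⟩, rfl⟩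
    have := Fintype.ofFinite SA
    rw [Nat.card_congr e, Nat.card_sigma, Fintype.sum_congr _ _ hf, Finset.sum_const, Finset.card_univ,
      ← Nat.card_eq_fintype_card, hSA, smul_eq_mul]
  have h2 : Nat.card {p : PP × SA // IsConj W0 (p.1 : Cfsg.Spor.HN) ∧ Commute (p.1 : Cfsg.Spor.HN) p.2} =
      ∑ x : PP, if IsConj W0 (x : Cfsg.Spor.HN) then HS x else 0 := by
    have e : {p : PP × SA // IsConj W0 (p.1 : Cfsg.Spor.HN) ∧ Commute (p.1 : Cfsg.Spor.HN) p.2} ≃
        Σ x : PP, {g : SA // IsConj W0 (x : Cfsg.Spor.HN) ∧ Commute (x : Cfsg.Spor.HN) g} :=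
      { toFun := fun p => ⟨p.1.1, ⟨p.1.2, p.2⟩⟩
        invFun := fun p => ⟨(p.1, p.2.1), p.2.2⟩
        left_inv := fun _ => rfl
        right_inv := fun _ => rfl }
    rw [Nat.card_congr e, Nat.card_sigma]
    refine Fintype.sum_congr _ _ fun x => ?_
    split_ifs with h
    · refine Nat.card_congr
        { toFun := fun g => ⟨g.1, g.1.2, g.2.2⟩
          invFun := fun g => ⟨⟨g.1, g.2.1⟩, h, g.2.2⟩
          left_inv := fun _ => rfl
          right_inv := fun _ => rfl }
    · have : IsEmpty {g : SA // IsConj W0 (x : Cfsg.Spor.HN) ∧ Commute (x : Cfsg.Spor.HN) g} :=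
        ⟨fun g => h g.2.1⟩
      exact Nat.card_of_isEmpty
  rw [h1, sum_pairs] at h2
  omega

end Cfsg.Agent.H653.HNE
end

private theorem dce_88b04e748cca : _root_.True := by
  try have : _root_.True := by simp only [_root_.Cfsg.Agent.H653.HNE.m2B.eq_2]
  try have : _root_.True := by simp only [_root_.Cfsg.Agent.H653.HNE.m2B.eq_4]
  try have : _root_.True := by simp only [_root_.Cfsg.Agent.H653.HNE.m2B.eq_3]
  try have : _root_.True := by simp only [_root_.Cfsg.Agent.H653.HNE.m2A.eq_3]
  try have : _root_.True := by simp only [_root_.Cfsg.Agent.H653.HNE.m2B.eq_1]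
  try have : _root_.True := by simp only [_root_.Cfsg.Agent.H653.HNE.m2A.eq_2]
  try have : _root_.True := by simp only [_root_.Cfsg.Agent.H653.HNE.m2A.eq_1]
  exact _root_.True.intro
end

-- part: H164/M23/Theta
section
set_option linter.all false
open scoped Cfsg.Agent.FastGrp

/-!
# A class function given by a table of values (helper164)

`T` a finite group, `s : ι → T` representatives of pairwise different conjugacy classes with centralizers of order
`n i`; `fn s th` is the class function with the value `th i` on the class of `s i` and `0` outside of these classes.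
`inner_fn` : the inner product of a class function `f` with `fn s th` is `∑ i, f (s i) * th i / n i`.
`irr_of_gen` : if `fn s th` is a generalized character, has norm `1` and a positive degree, it is irreducible.
-/

set_option autoImplicit false

open Cfsg
open Cfsg.Agent.Characters.Core
open scoped ComplexConjugate

namespace Cfsg.Agent.H164.M23.Theta

universe v

variable {T : Type v} [Group T] {ι : Type*} [Fintype ι]

open Classical in
/-- the value `th i` on the class of `s i`, `0` outside of these classes -/
noncomputable def fn (s : ι → T) (th : ι → ℤ) : T → ℂ :=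
  fun x => ∑ i, if IsConj (s i) x then (th i : ℂ) else 0

theorem isClassFunction_fn (s : ι → T) (th : ι → ℤ) : IsClassFunction T (fn s th) := by
  classical
  intro g h
  unfold fn
  refine Finset.sum_congr rfl fun i _ => ?_
  have h1 : IsConj (s i) (h * g * h⁻¹) ↔ IsConj (s i) g := by
    have h2 : IsConj g (h * g * h⁻¹) := isConj_iff.2 ⟨h, rfl⟩
    exact ⟨fun h3 => h3.trans h2.symm, fun h3 => h3.trans h2⟩
  by_cases h3 : IsConj (s i) g
  · rw [if_pos (h1.2 h3), if_pos h3]
  · rw [if_neg (fun h4 => h3 (h1.1 h4)), if_neg h3]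

theorem fn_of_isConj {s : ι → T} {th : ι → ℤ} (hs : ∀ i j, IsConj (s i) (s j) → i = j) {i : ι} {x : T}
    (h : IsConj (s i) x) : fn s th x = th i := by
  classical
  unfold fn
  rw [Finset.sum_eq_single i, if_pos h]
  · intro j _ hj
    rw [if_neg fun h1 => hj (hs j i (h1.trans h.symm))]
  · intro h1
    exact absurd (Finset.mem_univ i) h1

theorem fn_apply {s : ι → T} {th : ι → ℤ} (hs : ∀ i j, IsConj (s i) (s j) → i = j) (i : ι) : fn s th (s i) = th i :=
  fn_of_isConj hs (IsConj.refl _)

theorem fn_zero {s : ι → T} {th : ι → ℤ} {x : T} (h : ∀ i, ¬ IsConj (s i) x) : fn s th x = 0 := by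
  classical
  unfold fn
  exact Finset.sum_eq_zero fun i _ => if_neg (h i)

theorem conj_fn (s : ι → T) (th : ι → ℤ) (x : T) : conj (fn s th x) = fn s th x := by
  classical
  unfold fn
  rw [map_sum]
  refine Finset.sum_congr rfl fun i _ => ?_
  split_ifs
  · exact map_intCast _ _
  · exact map_zero _

/-- the function `fn` is the only class function with these values -/
theorem eq_fn {s : ι → T} {th : ι → ℤ} (hs : ∀ i j, IsConj (s i) (s j) → i = j) {θ : T → ℂ}
    (hθ : IsClassFunction T θ) (hv : ∀ i, θ (s i) = th i) (h0 : ∀ x, (∀ i, ¬ IsConj (s i) x) → θ x = 0) :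
    θ = fn s th := by
  funext x
  by_cases h : ∃ i, IsConj (s i) x
  · obtain ⟨i, hi⟩ := h
    rw [fn_of_isConj hs hi, ← hv i, classFunction_apply_eq hθ hi.symm]
  · push Not at h
    rw [h0 x h, fn_zero h]

theorem card_conj [Finite T] (x : T) :
    Nat.card {y : T // IsConj x y} * Nat.card (Subgroup.centralizer ({x} : Set T)) = Nat.card T := by
  have h1 : Nat.card {g : T // IsConj x g} = Nat.card (MulAction.orbit (ConjAct T) x) := by
    refine Nat.card_congr (Equiv.subtypeEquivRight fun g => ?_)
    rw [ConjAct.mem_orbit_conjAct, isConj_comm]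
  rw [h1, Subgroup.nat_card_centralizer_nat_card_stabilizer, ← Nat.card_prod]
  exact Nat.card_congr (MulAction.orbitProdStabilizerEquivGroup (ConjAct T) x)

/-- **The inner product with the table function.** -/
theorem inner_fn [Fintype T] {s : ι → T} {th : ι → ℤ} {n : ι → ℕ}
    (hn : ∀ i, Nat.card (Subgroup.centralizer ({s i} : Set T)) = n i) {f : T → ℂ} (hf : IsClassFunction T f) :
    classInner f (fn s th) = ∑ i, f (s i) * th i / n i := by
  classical
  have h0 : (Nat.card T : ℂ) ≠ 0 := card_ne_zero_complex
  rw [classInner_def]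
  have h1 : ∑ g : T, f g * conj (fn s th g) = ∑ i, (Nat.card {y : T // IsConj (s i) y} : ℂ) * (f (s i) * th i) := by
    have h2 : ∀ g : T, f g * conj (fn s th g) = ∑ i, if IsConj (s i) g then f (s i) * (th i : ℂ) else 0 := by
      intro g
      rw [conj_fn]
      unfold fn
      rw [Finset.mul_sum]
      refine Finset.sum_congr rfl fun i _ => ?_
      split_ifs with h3
      · rw [classFunction_apply_eq hf h3]
      · rw [mul_zero]
    rw [Finset.sum_congr rfl fun g _ => h2 g, Finset.sum_comm]
    refine Finset.sum_congr rfl fun i _ => ?_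
    rw [← Finset.sum_filter, Finset.sum_const, nsmul_eq_mul, Nat.card_eq_fintype_card, Fintype.card_subtype]
  rw [h1, Finset.mul_sum]
  refine Finset.sum_congr rfl fun i _ => ?_
  have h3 := card_conj (s i)
  rw [hn i] at h3
  have h4 : (n i : ℂ) ≠ 0 := by
    intro h5
    rw [Nat.cast_eq_zero] at h5
    rw [h5, mul_zero] at h3
    exact h0 (by rw [← h3, Nat.cast_zero])
  have h6 : (Nat.card {y : T // IsConj (s i) y} : ℂ) ≠ 0 := by
    intro h5
    rw [Nat.cast_eq_zero] at h5
    rw [h5, zero_mul] at h3
    exact h0 (by rw [← h3, Nat.cast_zero])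
  rw [← h3, Nat.cast_mul]
  field_simp

/-- the norm -/
theorem norm_fn [Fintype T] {s : ι → T} {th : ι → ℤ} {n : ι → ℕ} (hs : ∀ i j, IsConj (s i) (s j) → i = j)
    (hn : ∀ i, Nat.card (Subgroup.centralizer ({s i} : Set T)) = n i) :
    classInner (fn s th) (fn s th) = ∑ i, (th i : ℂ) * th i / n i := by
  rw [inner_fn hn (isClassFunction_fn s th)]
  refine Finset.sum_congr rfl fun i _ => ?_
  rw [fn_apply hs]

/-- a generalized character of norm `1` and positive degree is irreducible -/
theorem irr_of_gen [Fintype T] {θ : T → ℂ} (hg : IsGeneralizedCharacter T θ) (h1 : classInner θ θ = 1) {d : ℕ}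
    (hd : θ 1 = d) : IsIrrCharacter T θ := by
  rcases isIrr_of_generalized hg h1 with h | h
  · exact h
  · obtain ⟨m, hm0, hm⟩ := isIrr_apply_one h
    exfalso
    rw [Pi.neg_apply, hd] at hm
    have h2 : (m : ℂ) + d = 0 := by rw [← hm]; ring
    have h3 : m + d = 0 := by exact_mod_cast h2
    omega

end Cfsg.Agent.H164.M23.Theta
end

-- part: H741/M23/RhoHN
section
prune_inst 0x100041000000020000000000000040000000009000400000000000000800000000000000002000020000028040010000001000200000000000000000000000000800000000000100000008000000000000000000000000000000000000000000000000000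
set_option linter.all false
open scoped Cfsg.Agent.FastGrp

-- part: H741/M23/Avg
section
/-!
# Local tests by congruences modulo the orders of the centralizers (helper741)

* `class_int` : `(1/|R|) ∑ k(a) χ̄(a b)` is integral if `|C_R(a)|` divides `k(a)`, `k` a class function of `R`.
* `cert_int` : the local test for a function which is congruent to a generalized character modulo `|C_R(a)|`.
-/

set_option autoImplicit false

open scoped ComplexConjugate
open Cfsg

namespace Cfsg.Agent.H741.M23.Avg

universe u

open Cfsg.Agent.Characters Cfsg.Agent.H853.ThC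

section R

variable {R : Type u} [Group R] [Fintype R]

open Classical in
theorem sum_classes (h : R → ℂ) (hcl : ∀ a x : R, h (x * a * x⁻¹) = h a) :
    ∑ a : R, h a = ∑ K ∈ Finset.univ.image (ConjClasses.mk : R → ConjClasses R),
      ((Subgroup.centralizer ({Quotient.out K} : Set R)).index : ℂ) * h (Quotient.out K) := by
  have hmk : ∀ a b : R, (ConjClasses.mk a = ConjClasses.mk b) ↔ IsConj a b := fun a b =>
    ConjClasses.mk_eq_mk_iff_isConj
  have hout : ∀ K : ConjClasses R, ConjClasses.mk (Quotient.out K) = K := fun K => Quotient.out_eq K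
  have h1 : ∀ a : R, h a = h (Quotient.out (ConjClasses.mk a)) := by
    intro a
    obtain ⟨c, hc⟩ := isConj_iff.1 ((hmk _ _).1 (hout (ConjClasses.mk a)))
    have h0 := hcl (Quotient.out (ConjClasses.mk a)) c
    rwa [hc] at h0
  rw [Finset.sum_congr rfl (fun a _ => h1 a),
    Finset.sum_comp (fun K : ConjClasses R => h (Quotient.out K)) (ConjClasses.mk : R → ConjClasses R)]
  refine Finset.sum_congr rfl fun K _ => ?_
  have h2 : (Finset.univ.filter fun a : R => ConjClasses.mk a = K).card =
      (Subgroup.centralizer ({Quotient.out K} : Set R)).index := by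
    rw [CentralCharacter.index_centralizer_eq_card, Nat.card_eq_fintype_card, Fintype.card_subtype]
    congr 1
    ext a
    simp only [Finset.mem_filter, Finset.mem_univ, true_and]
    constructor
    · intro h3
      exact ((hmk _ _).1 (h3.trans (hout K).symm)).symm
    · intro h3
      exact ((hmk _ _).2 h3.symm).trans (hout K)
  rw [h2, nsmul_eq_mul]

end R

section E

variable {E : Type u} [Group E] [Finite E] (R : Subgroup E) [Fintype R] (b : E)
  (hb : ∀ a ∈ R, Commute a b)
include hb

omit [Finite E] [Fintype R] in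
theorem conj_mul (a x : R) : ((x * a * x⁻¹ : R) : E) * b = (x : E) * ((a : E) * b) * (x : E)⁻¹ := by
  have h1 : (x : E) * b = b * x := (hb x x.2).eq
  have h2 : (x : E)⁻¹ * b = b * (x : E)⁻¹ := by
    have := (hb x⁻¹ (x⁻¹).2).eq
    simpa using this
  push_cast
  calc (x : E) * a * (x : E)⁻¹ * b = (x : E) * a * ((x : E)⁻¹ * b) := by group
    _ = (x : E) * a * (b * (x : E)⁻¹) := by rw [h2]
    _ = _ := by group

theorem class_int (k : R → ℤ) (hk : ∀ a x : R, k (x * a * x⁻¹) = k a)
    (hd : ∀ a : R, (Nat.card (Subgroup.centralizer ({a} : Set R)) : ℤ) ∣ k a) {χ : E → ℂ}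
    (hχ : IsCharacter E χ) :
    IsIntegral ℤ ((Nat.card R : ℂ)⁻¹ * ∑ a : R, (k a : ℂ) * conj (χ (a * b))) := by
  classical
  have hχc := Core.isCharacter_conj hχ
  rw [sum_classes (fun a : R => (k a : ℂ) * conj (χ (a * b))) (fun a x => by
    rw [hk, conj_mul R b hb, Core.isCharacter_isClassFunction hχ]), Finset.mul_sum]
  refine IsIntegral.sum _ fun K _ => ?_
  set a : R := Quotient.out K with ha
  obtain ⟨m, hm⟩ := hd a
  have h1 : (Nat.card R : ℂ) = ((Subgroup.centralizer ({a} : Set R)).index : ℂ) *
      (Nat.card (Subgroup.centralizer ({a} : Set R)) : ℂ) := by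
    exact_mod_cast (Subgroup.index_mul_card (Subgroup.centralizer ({a} : Set R))).symm
  have hne : (Nat.card R : ℂ) ≠ 0 := by exact_mod_cast Nat.card_pos.ne'
  have h2 : (Nat.card R : ℂ)⁻¹ * (((Subgroup.centralizer ({a} : Set R)).index : ℂ) *
      ((k a : ℂ) * conj (χ (a * b)))) = (m : ℂ) * conj (χ (a * b)) := by
    rw [hm]
    push_cast
    have h3 : (Nat.card R : ℂ)⁻¹ * (((Subgroup.centralizer ({a} : Set R)).index : ℂ) *
      ((Nat.card (Subgroup.centralizer ({a} : Set R)) : ℂ) * m * conj (χ (a * b)))) =
      (Nat.card R : ℂ)⁻¹ * (((Subgroup.centralizer ({a} : Set R)).index : ℂ) *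
      (Nat.card (Subgroup.centralizer ({a} : Set R)) : ℂ)) * (m * conj (χ (a * b))) := by ring
    rw [h3, ← h1, inv_mul_cancel₀ hne, one_mul]
  rw [h2]
  exact IsIntegral.mul (isIntegral_int m) (GaloisBasic.isIntegral_apply hχc _)

/-- `n f` is congruent to the generalized character `φ` modulo `|C_R(a)|` -/
theorem cert_int {f φ : E → ℂ} (hφ : IsGeneralizedCharacter E φ) (n : ℂ) (k : R → ℤ)
    (hk : ∀ a x : R, k (x * a * x⁻¹) = k a)
    (hd : ∀ a : R, (Nat.card (Subgroup.centralizer ({a} : Set R)) : ℤ) ∣ k a)
    (h : ∀ a : R, n * f (a * b) = φ (a * b) + k a) {χ : E → ℂ} (hχ : IsCharacter E χ) :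
    IsIntegral ℤ (n * ((Nat.card R : ℂ)⁻¹ * ∑ a : R, f (a * b) * conj (χ (a * b)))) := by
  have h1 := isIntegral_avg (Brauer.isGeneralizedCharacter_mul hφ
    (Brauer.isGeneralizedCharacter_of_isCharacter (Core.isCharacter_conj hχ))) R b hb
  have h2 := class_int R b hb k hk hd hχ
  have h3 : n * ((Nat.card R : ℂ)⁻¹ * ∑ a : R, f (a * b) * conj (χ (a * b))) =
      (Nat.card R : ℂ)⁻¹ * ∑ a : R, (φ * fun g => conj (χ g)) ((a : E) * b) +
      (Nat.card R : ℂ)⁻¹ * ∑ a : R, (k a : ℂ) * conj (χ (a * b)) := by
    rw [← mul_add, ← Finset.sum_add_distrib, mul_left_comm, Finset.mul_sum]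
    congr 1
    refine Finset.sum_congr rfl fun a _ => ?_
    rw [← mul_assoc, h a]
    show (φ (a * b) + k a) * conj (χ (a * b)) = φ (a * b) * conj (χ (a * b)) + k a * conj (χ (a * b))
    ring
  rw [h3]
  exact IsIntegral.add h1 h2

end E

end Cfsg.Agent.H741.M23.Avg
end

-- part: H741/M23/Gen
section
/-!
# The class function `θ` of the Harada-Norton group is a generalized character (helper741, (M,23) of S4929)

`gen_theta` : from the class table `Table H ty`, a generalized character `β` with the values `Ty.b` on the 5-regular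
elements and a generalized character `ρ` with the values `rh` on the elements of 2-power order, the function
`g ↦ (ty g).th` (zero on the elements of order divisible by 5) is a generalized character.
-/

set_option autoImplicit false

open scoped ComplexConjugate
open Cfsg

namespace Cfsg.Agent.H741.M23.Gen

open Cfsg.Agent.Characters Cfsg.Agent.H853.ThC Cfsg.Agent.H741.M23.Avg Cfsg.Agent.H651.HNF

/-! ### The tables -/

/-- the values of `ρ` (the permutation character on the class 2B) on the 2-elements -/
def rh : Ty → ℤ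
  | .c1 => 74064375 | .c2A => 51975 | .c2B => 8311 | .c4A => 71 | .c4B => 75 | .c4C => 151 | .c8A => 5 | .c8B => 3
  | _ => 0

/-- the types of the 2-elements -/
def two : Ty → Bool
  | .c1 => true | .c2A => true | .c2B => true | .c4A => true | .c4B => true | .c4C => true | .c8A => true
  | .c8B => true | _ => false

/-- the type of the part of order prime to `r` -/
def reg (r : ℕ) (s : Ty) : Ty := (((s.pw r).pw r).pw r).pw r

/-- the `r`-part of the order of the centralizer -/
def rpt (r : ℕ) (s : Ty) : ℕ := Nat.gcd s.cen (r ^ 48)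

/-- the exterior square of `β` -/
def lamb (s : Ty) : ℤ := (s.b * s.b - s.sq.b) / 2

/-- the exterior square of `ρ` -/
def lamr (s : Ty) : ℤ := (rh s * rh s - rh s.sq) / 2

/-- the coefficients of `1`, `β`, `β²`, `Λ²β` -/
def cf (r : ℕ) (t : Ty) : ℤ × ℤ × ℤ × ℤ :=
  if r = 2 then (match t with
    | .c3A => (1, 2, -2, 1) | .c7 => (1, 0, 0, 0) | .c11 => (1, 0, 0, 0) | _ => (0, 0, 0, 0))
  else if r = 3 then (match t with
    | .c1 => (0, -14, 13, 0) | .c2A => (-1, 0, 0, 0) | .c2B => (-4, 2, 0, 0) | .c4A => (1, 0, 0, 0)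
    | .c7 => (-1, 0, 0, 0) | _ => (0, 0, 0, 0))
  else if r = 7 then (match t with
    | .c1 => (5, 0, 0, 0) | .c2A => (1, 0, 0, 0) | .c3A => (-1, 0, 0, 0) | _ => (0, 0, 0, 0))
  else if r = 11 then (match t with
    | .c1 => (1, 0, 0, 0) | .c2A => (1, 0, 0, 0) | _ => (0, 0, 0, 0))
  else (0, 0, 0, 0)

/-- the values of the polynomial with the coefficients `c` -/
def val (c : ℤ × ℤ × ℤ × ℤ) (s : Ty) : ℤ := c.1 + c.2.1 * s.b + c.2.2.1 * (s.b * s.b) + c.2.2.2 * lamb s

/-- the values of the polynomial for the prime 2 -/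
def val2 (s : Ty) : ℤ := -40 + 17 * s.b + (s.b - 91 * lamb s) * lamr s

theorem chk : ∀ r ∈ [2, 3, 7, 11, 19], ∀ s : Ty, s ≠ .sing → ¬ (r = 2 ∧ reg r s = .c1) →
    ((rpt r s : ℕ) : ℤ) ∣ s.th - val (cf r (reg r s)) s := by decide +kernel

theorem chk2 : ∀ s : Ty, s ≠ .sing → reg 2 s = .c1 → two s = true ∧ ((rpt 2 s : ℕ) : ℤ) ∣ s.th - val2 s := by
  decide +kernel

theorem lamb_eq : ∀ s : Ty, s ≠ .sing → s.b * s.b - s.sq.b = 2 * lamb s := by decide +kernel

theorem lamr_eq : ∀ s : Ty, two s = true → rh s * rh s - rh s.sq = 2 * lamr s := by decide +kernel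

theorem two_sq : ∀ s : Ty, two s = true → two s.sq = true ∧ s ≠ .sing := by decide +kernel

theorem cen_pos : ∀ s : Ty, s ≠ .sing → 0 < s.cen ∧ s.cen < 2 ^ 48 := by decide +kernel

theorem ord_le : ∀ s : Ty, s ≠ .sing → 0 < s.ord ∧ s.ord < 2 ^ 5 := by decide +kernel

theorem five_chk : ∀ s : Ty, s ≠ .sing → ((rpt 5 s : ℕ) : ℤ) ∣ s.th := by decide +kernel

theorem sing_th : Ty.sing.th = 0 := rfl

/-! ### Types of products -/

section tab

variable {H : Type} [Group H] {ty : H → Ty} (T : Table H ty)
include T

theorem ne_pow {x : H} (hx : ty x ≠ .sing) (m : ℕ) : ty (x ^ m) ≠ .sing := by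
  intro h
  rw [T.sing] at h
  exact hx ((T.sing x).2 (h.trans (orderOf_pow_dvd m)))

theorem ty_pow4 {x : H} (hx : ty x ≠ .sing) {r : ℕ} (hr : r.Prime) : ty (x ^ r ^ 4) = reg r (ty x) := by
  have h1 := T.pow x r hr hx
  have h2 := T.pow (x ^ r) r hr (ne_pow T hx _)
  have h3 := T.pow ((x ^ r) ^ r) r hr (ne_pow T (ne_pow T hx _) _)
  have h4 := T.pow (((x ^ r) ^ r) ^ r) r hr (ne_pow T (ne_pow T (ne_pow T hx _) _) _)
  have h5 : x ^ r ^ 4 = (((x ^ r) ^ r) ^ r) ^ r := by
    rw [← pow_mul, ← pow_mul, ← pow_mul]
    congr 1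
    ring
  rw [h5, h4, h3, h2, h1]
  rfl

theorem ty_prod {a b : H} (hab : Commute a b) (hx : ty (a * b) ≠ .sing) {r : ℕ} (hr : r.Prime) {i : ℕ}
    (hi : orderOf a = r ^ i) (hb : ¬ r ∣ orderOf b) : reg r (ty (a * b)) = ty b := by
  have hcop : (orderOf a).Coprime (orderOf b) := by
    rw [hi]
    exact Nat.Coprime.pow_left i ((Nat.Prime.coprime_iff_not_dvd hr).2 hb)
  have hord : orderOf (a * b) = orderOf a * orderOf b := hab.orderOf_mul_eq_mul_orderOf_of_coprime hcop
  have hle := ord_le _ hx
  rw [← T.ord _ hx, hord] at hle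
  have hbpos : 0 < orderOf b := Nat.pos_of_ne_zero fun h => by
    rw [h, mul_zero] at hle
    exact absurd hle.1 (by norm_num)
  have hi4 : i ≤ 4 := by
    by_contra hc
    have h1 : 2 ^ 5 ≤ 2 ^ i := Nat.pow_le_pow_right (by norm_num) (by omega)
    have h2 : 2 ^ i ≤ r ^ i := Nat.pow_le_pow_left hr.two_le i
    have h3 : orderOf a ≤ orderOf a * orderOf b := Nat.le_mul_of_pos_right _ hbpos
    omega
  have ha4 : a ^ r ^ 4 = 1 := by
    apply orderOf_dvd_iff_pow_eq_one.1
    rw [hi]
    exact pow_dvd_pow r hi4
  have hbne : ty b ≠ .sing := by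
    intro h
    apply hx
    rw [T.sing] at h ⊢
    rw [hord]
    exact h.mul_left _
  rw [← ty_pow4 T hx hr, hab.mul_pow, ha4, one_mul]
  exact T.real b hbne _ (Nat.Coprime.pow_left 4 ((Nat.Prime.coprime_iff_not_dvd hr).2 hb))

end tab

/-! ### The order of `C_R(a)` -/

section cent

variable {H : Type} [Group H] [Finite H] {ty : H → Ty} (T : Table H ty)
include T

theorem card_cent_R {E : Subgroup H} {R : Subgroup E} {r : ℕ} (hr : r.Prime) (hR : IsPGroup r R) {b : E}
    (hb : ∀ a ∈ R, Commute a b) (a : R) (hx : ty (((a : E) * b : E) : H) ≠ .sing) :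
    Nat.card (Subgroup.centralizer ({a} : Set R)) ∣ rpt r (ty (((a : E) * b : E) : H)) := by
  have : Fact r.Prime := ⟨hr⟩
  obtain ⟨j, hj⟩ := (hR.to_subgroup (Subgroup.centralizer ({a} : Set R))).exists_card_eq
  have h1 : Nat.card (Subgroup.centralizer ({a} : Set R)) ∣ (ty (((a : E) * b : E) : H)).cen := by
    rw [← T.cent _ hx]
    let f : R →* H := E.subtype.comp R.subtype
    have hf : Function.Injective f := E.subtype_injective.comp R.subtype_injective
    have h2 : Nat.card ((Subgroup.centralizer ({a} : Set R)).map f) =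
        Nat.card (Subgroup.centralizer ({a} : Set R)) :=
      Nat.card_congr ((Subgroup.centralizer ({a} : Set R)).equivMapOfInjective f hf).toEquiv.symm
    rw [← h2]
    apply Subgroup.card_dvd_of_le
    rintro _ ⟨x, hx', rfl⟩
    rw [Subgroup.mem_centralizer_singleton_iff]
    have h3 : x * a = a * x := Subgroup.mem_centralizer_singleton_iff.1 hx'
    have h4 : (x : E) * (a : E) = a * x := congrArg Subtype.val h3
    have h5 : (x : E) * b = b * x := (hb x x.2).eq
    have h6 : (x : E) * ((a : E) * b) = (a : E) * b * x := by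
      rw [← mul_assoc, h4, mul_assoc, h5, mul_assoc]
    exact congrArg Subtype.val h6
  refine Nat.dvd_gcd h1 ?_
  rw [hj] at h1 ⊢
  apply pow_dvd_pow
  by_contra hc
  have hcen := cen_pos _ hx
  have h2 : 2 ^ 48 ≤ 2 ^ j := Nat.pow_le_pow_right (by norm_num) (by omega)
  have h3 : 2 ^ j ≤ r ^ j := Nat.pow_le_pow_left hr.two_le j
  have h4 := Nat.le_of_dvd hcen.1 h1
  omega

theorem loc_cert (E : Subgroup H) {r : ℕ} (hr : r.Prime) (h5 : r ≠ 5) (Φ : Ty → H → ℂ) (p : Ty → Ty → ℤ)
    (hΦ : ∀ t, IsGeneralizedCharacter H (Φ t))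
    (hv : ∀ x, ty x ≠ .sing → Φ (reg r (ty x)) x = (p (reg r (ty x)) (ty x) : ℂ))
    (hc : ∀ s, s ≠ .sing → ((rpt r s : ℕ) : ℤ) ∣ s.th - p (reg r s) s) :
    Loc r (fun e : E => ((ty (e : H)).th : ℂ)) := by
  have : Fact r.Prime := ⟨hr⟩
  refine ⟨1, by norm_num, ?_⟩
  intro R _ b hR hrb hb χ hχ
  rw [Nat.cast_one]
  by_cases h5b : 5 ∣ orderOf (b : H)
  · rw [one_mul]
    have hs : ∀ a : E, a ∈ R → ty ((a * b : E) : H) = .sing := by
      intro a ha
      obtain ⟨i, hi, -⟩ := order_mul hr hR hb hrb ha
      rw [T.sing, hi]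
      exact h5b.mul_left _
    refine const_int (f := fun e : E => ((ty (e : H)).th : ℂ)) R b hb 0 0 (fun a ha _ => ?_) ?_ hχ
    · show ((ty ((a * b : E) : H)).th : ℂ) = ((0 : ℤ) : ℂ)
      rw [hs a ha, sing_th]
    · show ((ty (b : H)).th : ℂ) = ((0 : ℤ) : ℂ) + (Nat.card R : ℂ) * ((0 : ℤ) : ℂ)
      rw [(T.sing _).2 h5b, sing_th]
      simp
  · have hne : ∀ a : E, a ∈ R → ty ((a * b : E) : H) ≠ .sing := by
      intro a ha h
      obtain ⟨i, hi, -⟩ := order_mul hr hR hb hrb ha
      rw [T.sing, hi] at h
      rcases (Nat.Prime.dvd_mul Nat.prime_five).1 h with h | h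
      · exact h5 ((Nat.prime_dvd_prime_iff_eq Nat.prime_five hr).1 (Nat.prime_five.dvd_of_dvd_pow h)).symm
      · exact h5b h
    have hty : ∀ a : E, a ∈ R → reg r (ty ((a * b : E) : H)) = ty (b : H) := by
      intro a ha
      obtain ⟨i, hi⟩ := (IsPGroup.iff_orderOf.1 hR) ⟨a, ha⟩
      have hi' : orderOf (a : H) = r ^ i := by
        rw [← hi, Subgroup.orderOf_coe, ← Subgroup.orderOf_coe (⟨a, ha⟩ : R)]
      have hcm : Commute (a : H) (b : H) := by
        have := congrArg E.subtype (hb a ha).eq
        rw [map_mul, map_mul] at this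
        exact this
      exact ty_prod T hcm (hne a ha) hr hi' (by rwa [Subgroup.orderOf_coe])
    refine cert_int R b hb (f := fun e : E => ((ty (e : H)).th : ℂ)) (φ := fun e : E => Φ (ty (b : H)) (e : H))
      (H651.isGeneralizedCharacter_comp_hom E.subtype (hΦ (ty (b : H)))) 1
      (fun a : R => (ty (((a : E) * b : E) : H)).th - p (ty (b : H)) (ty (((a : E) * b : E) : H))) ?_ ?_ ?_ hχ
    · intro a x
      have h1 : ty (((((x * a * x⁻¹ : R) : E) * b : E)) : H) = ty (((a : E) * b : E) : H) := by
        refine (T.inv _ _ (isConj_iff.2 ⟨((x : E) : H), ?_⟩)).symm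
        rw [conj_mul R b hb]
        rfl
      rw [h1]
    · intro a
      have h1 := card_cent_R T hr hR hb a (hne a a.2)
      have h2 := hc _ (hne a a.2)
      rw [hty a a.2] at h2
      exact (Int.natCast_dvd_natCast.2 h1).trans h2
    · intro a
      have h1 := hv _ (hne a a.2)
      rw [hty a a.2] at h1
      rw [one_mul, h1]
      push_cast
      ring

/-- the local test at 5 -/
theorem loc_five (E : Subgroup H) : Loc 5 (fun e : E => ((ty (e : H)).th : ℂ)) := by
  refine ⟨1, by norm_num, ?_⟩
  intro R _ b hR hrb hb χ hχ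
  rw [Nat.cast_one, one_mul]
  have hbne : ty (b : H) ≠ .sing := by
    intro h
    rw [T.sing, Subgroup.orderOf_coe] at h
    exact hrb h
  have h1 := card_cent_R T Nat.prime_five hR hb 1 (by rwa [Subgroup.coe_one, one_mul])
  rw [Subgroup.coe_one, one_mul] at h1
  have h2 : Nat.card (Subgroup.centralizer ({(1 : R)} : Set R)) = Nat.card R := by
    have h3 : Subgroup.centralizer ({(1 : R)} : Set R) = ⊤ := by
      rw [eq_top_iff]
      intro x _
      rw [Subgroup.mem_centralizer_singleton_iff, mul_one, one_mul]
    rw [h3, Subgroup.card_top]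
  rw [h2] at h1
  obtain ⟨k, hk⟩ := (Int.natCast_dvd_natCast.2 h1).trans (five_chk _ hbne)
  refine const_int (f := fun e : E => ((ty (e : H)).th : ℂ)) R b hb 0 k (fun a ha ha1 => ?_) ?_ hχ
  · obtain ⟨i, hi, hi1⟩ := order_mul Nat.prime_five hR hb hrb ha
    have h3 : ty ((a * b : E) : H) = .sing := by
      rw [T.sing, hi]
      exact Dvd.dvd.mul_right (dvd_pow_self 5 (by have := hi1 ha1; omega)) _
    show ((ty ((a * b : E) : H)).th : ℂ) = ((0 : ℤ) : ℂ)
    rw [h3, sing_th]
  · show ((ty (b : H)).th : ℂ) = ((0 : ℤ) : ℂ) + (Nat.card R : ℂ) * (k : ℂ)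
    rw [hk]
    push_cast
    ring

end cent

/-! ### Constants -/

theorem gen_const {G : Type} [Group G] [Finite G] (c : ℤ) : IsGeneralizedCharacter G (fun _ => (c : ℂ)) := by
  have h1 : IsGeneralizedCharacter G (1 : G → ℂ) :=
    Brauer.isGeneralizedCharacter_of_isCharacter Core.isCharacter_one
  have hn : ∀ n : ℕ, IsGeneralizedCharacter G (fun _ => (n : ℂ)) := by
    intro n
    induction n with
    | zero =>
      have h2 : (fun _ => ((0 : ℕ) : ℂ)) = (0 : G → ℂ) := by
        funext g
        simp
      rw [h2]
      exact Brauer.isGeneralizedCharacter_zero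
    | succ n ih =>
      have h2 : (fun _ => ((n + 1 : ℕ) : ℂ)) = (fun _ => (n : ℂ)) + (1 : G → ℂ) := by
        funext g
        simp
      rw [h2]
      exact Brauer.isGeneralizedCharacter_add ih h1
  obtain ⟨n, rfl | rfl⟩ := Int.eq_nat_or_neg c
  · exact_mod_cast hn n
  · have h2 : (fun _ => ((-(n : ℤ) : ℤ) : ℂ)) = -(fun _ : G => (n : ℂ)) := by
      funext g
      simp
    rw [h2]
    exact Brauer.isGeneralizedCharacter_neg (hn n)

section main

variable {H : Type} [Group H] [Finite H] {ty : H → Ty} (T : Table H ty) {β ρ : H → ℂ}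
  (hβ : IsGeneralizedCharacter H β) (hbv : ∀ g, ty g ≠ .sing → β g = ((ty g).b : ℂ))
include T hβ hbv

omit T hbv in
/-- the polynomials -/
theorem gen_poly (c : ℤ × ℤ × ℤ × ℤ) : IsGeneralizedCharacter H (fun g => (c.1 : ℂ) + c.2.1 * β g +
    c.2.2.1 * (β g * β g) + c.2.2.2 * ((β g * β g - β (g ^ 2)) / 2)) := by
  have h1 := Brauer.isGeneralizedCharacter_mul (gen_const (G := H) c.2.1) hβ
  have h2 := Brauer.isGeneralizedCharacter_mul (gen_const (G := H) c.2.2.1)
    (Brauer.isGeneralizedCharacter_mul hβ hβ)
  have h3 := Brauer.isGeneralizedCharacter_mul (gen_const (G := H) c.2.2.2)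
    (H447.CTab.gen_ext_two hβ)
  exact Brauer.isGeneralizedCharacter_add (Brauer.isGeneralizedCharacter_add
    (Brauer.isGeneralizedCharacter_add (gen_const c.1) h1) h2) h3

omit hβ [Finite H] in
theorem lamb_val {x : H} (hx : ty x ≠ .sing) : (β x * β x - β (x ^ 2)) / 2 = (lamb (ty x) : ℂ) := by
  have h1 : ty (x ^ 2) = (ty x).sq := T.pow x 2 Nat.prime_two hx
  rw [hbv x hx, hbv (x ^ 2) (ne_pow T hx 2), h1]
  have h2 := lamb_eq _ hx
  have h3 : ((ty x).b : ℂ) * ((ty x).b : ℂ) - ((ty x).sq.b : ℂ) = 2 * (lamb (ty x) : ℂ) := by exact_mod_cast h2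
  rw [h3]
  ring

/-- the local tests at the primes other than 5, except `b = 1` for the prime 2 -/
theorem loc_all (hρ : IsGeneralizedCharacter H ρ) (hrv : ∀ g, two (ty g) = true → ρ g = (rh (ty g) : ℂ))
    (E : Subgroup H) {r : ℕ} (hr : r.Prime) : Loc r (fun e : E => ((ty (e : H)).th : ℂ)) := by
  by_cases h5 : r = 5
  · rw [h5]; exact loc_five T E
  by_cases hm : r ∈ [2, 3, 7, 11, 19]
  · refine loc_cert T E hr h5 (fun t => if r = 2 ∧ t = .c1 then
        (fun g => ((-40 : ℤ) : ℂ) + ((17 : ℤ) : ℂ) * β g + (β g - ((91 : ℤ) : ℂ) * ((β g * β g - β (g ^ 2)) / 2)) *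
          ((ρ g * ρ g - ρ (g ^ 2)) / 2)) else
        (fun g => ((cf r t).1 : ℂ) + (cf r t).2.1 * β g + (cf r t).2.2.1 * (β g * β g) +
          (cf r t).2.2.2 * ((β g * β g - β (g ^ 2)) / 2)))
      (fun t s => if r = 2 ∧ t = .c1 then val2 s else val (cf r t) s) ?_ ?_ ?_
    · intro t
      split_ifs with h
      · have h1 := Brauer.isGeneralizedCharacter_mul (gen_const (G := H) 17) hβ
        have h2 := Brauer.isGeneralizedCharacter_mul (gen_const (G := H) 91) (H447.CTab.gen_ext_two hβ)
        have h3 := Brauer.isGeneralizedCharacter_mul (Brauer.isGeneralizedCharacter_sub hβ h2)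
          (H447.CTab.gen_ext_two hρ)
        exact Brauer.isGeneralizedCharacter_add (Brauer.isGeneralizedCharacter_add (gen_const (-40)) h1) h3
      · exact gen_poly hβ (cf r t)
    · intro x hx
      by_cases h : r = 2 ∧ reg r (ty x) = .c1
      · rw [if_pos h, if_pos h]
        obtain ⟨h2, h1⟩ := h
        rw [h2] at h1
        have h3 := (chk2 _ hx h1).1
        have h4 := (two_sq _ h3).1
        have h5' : ty (x ^ 2) = (ty x).sq := T.pow x 2 Nat.prime_two hx
        rw [lamb_val T hbv hx, hbv x hx, hrv x h3, hrv (x ^ 2) (by rw [h5']; exact h4), h5']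
        have h6 : ((rh (ty x) : ℤ) : ℂ) * (rh (ty x) : ℂ) - (rh (ty x).sq : ℂ) = 2 * (lamr (ty x) : ℂ) := by
          exact_mod_cast lamr_eq _ h3
        rw [h6]
        unfold val2
        push_cast
        ring
      · rw [if_neg h, if_neg h]
        rw [lamb_val T hbv hx, hbv x hx]
        unfold val
        push_cast
        ring
    · intro s hs
      by_cases h : r = 2 ∧ reg r s = .c1
      · rw [if_pos h]
        obtain ⟨h2, h1⟩ := h
        rw [h2] at h1 ⊢
        exact (chk2 s hs h1).2
      · rw [if_neg h]
        exact chk r hm s hs h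
  · have hreg : ∀ s : Ty, reg r s = s := by
      intro s
      simp only [List.mem_cons, List.not_mem_nil, or_false, not_or] at hm
      obtain ⟨h2, h3, h7, h11, h19⟩ := hm
      have h1 : ∀ s : Ty, s.pw r = s := by
        intro s
        unfold Ty.pw
        rw [if_neg h2, if_neg h3, if_neg h7, if_neg h11, if_neg h19]
      unfold reg
      rw [h1, h1, h1, h1]
    refine loc_cert T E hr h5 (fun t _ => (t.th : ℂ)) (fun t _ => t.th) (fun t => gen_const t.th) ?_ ?_
    · intro x _
      rfl
    · intro s _
      rw [hreg, sub_self]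
      exact dvd_zero _

/-- **`θ` is a generalized character.** -/
theorem gen_theta (hρ : IsGeneralizedCharacter H ρ) (hrv : ∀ g, two (ty g) = true → ρ g = (rh (ty g) : ℂ)) :
    IsGeneralizedCharacter H (fun g => ((ty g).th : ℂ)) := by
  have hcl : ∀ g h : H, ty (h * g * h⁻¹) = ty g := fun g h => (T.inv _ _ (isConj_iff.2 ⟨h, rfl⟩)).symm
  refine Brauer.brauer_characterization _ (fun g h => ?_) fun E p hp hel => ?_
  · show ((ty (h * g * h⁻¹)).th : ℂ) = _
    rw [hcl]
  have hnil : Group.IsNilpotent E := H651.isNilpotent_of_isElementary hp hel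
  refine isGeneralizedCharacter_of_loc ?_ (fun e => ⟨_, rfl⟩) ?_ fun r hr => loc_all T hβ hbv hρ hrv E hr
  · intro g k
    show ((ty ((k * g * k⁻¹ : E) : H)).th : ℂ) = _
    have : ((k * g * k⁻¹ : E) : H) = (k : H) * g * (k : H)⁻¹ := rfl
    rw [this, hcl]
  · intro m hm e
    show ((ty ((e ^ m : E) : H)).th : ℂ) = ((ty (e : H)).th : ℂ)
    by_cases hs : ty (e : H) = .sing
    · have h1 : ty ((e ^ m : E) : H) = .sing := by
        rw [T.sing] at hs ⊢
        rw [Subgroup.orderOf_coe] at hs ⊢
        rw [Nat.Coprime.orderOf_pow (Nat.Coprime.coprime_dvd_right (orderOf_dvd_natCard e) hm).symm]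
        exact hs
      rw [h1, hs]
    · rw [Subgroup.coe_pow, T.real _ hs m]
      rw [Subgroup.orderOf_coe]
      exact Nat.Coprime.coprime_dvd_right (orderOf_dvd_natCard e) hm

end main

end Cfsg.Agent.H741.M23.Gen
end

-- part: H741/M23/Rho
section
/-!
# `gen_theta` with the permutation character on a conjugacy class (helper741, (M,23) of S4929)

`gen_theta_of` : the hypothesis on `ρ` of `gen_theta` is replaced by the numbers of the conjugates of an element `W`
(of the class 2B) commuting with the elements of 2-power order.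
-/

set_option autoImplicit false

open Cfsg MulAction

namespace Cfsg.Agent.H741.M23.Gen

open Cfsg.Agent.Characters Cfsg.Agent.H651.HNF Cfsg.Agent.H464.PermIrr

/-- the conjugates of `W` -/
def Cl {H : Type} [Group H] (W : H) : Type := {t : H // IsConj W t}

instance {H : Type} [Group H] (W : H) : MulAction H (Cl W) where
  smul h t := ⟨h * t.1 * h⁻¹, t.2.trans (isConj_iff.2 ⟨h, rfl⟩)⟩
  one_smul t := Subtype.ext (show 1 * t.1 * 1⁻¹ = t.1 by group)
  mul_smul a b t := Subtype.ext (show a * b * t.1 * (a * b)⁻¹ = a * (b * t.1 * b⁻¹) * a⁻¹ by group)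

instance {H : Type} [Group H] [Finite H] (W : H) : Finite (Cl W) :=
  inferInstanceAs (Finite {t : H // IsConj W t})

/-- the number of conjugates of `W` commuting with `g` -/
noncomputable def nfix {H : Type} [Group H] (W g : H) : ℕ := Nat.card {t : H // IsConj W t ∧ Commute t g}

theorem nfix_eq {H : Type} [Group H] (W g : H) : nfix W g = Nat.card (fixedBy (Cl W) g) := by
  refine Nat.card_congr
    { toFun := fun t => ⟨⟨t.1, t.2.1⟩, Subtype.ext ?_⟩
      invFun := fun t => ⟨t.1.1, t.1.2, ?_⟩
      left_inv := fun t => rfl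
      right_inv := fun t => rfl }
  · show g * t.1 * g⁻¹ = t.1
    rw [mul_inv_eq_iff_eq_mul]
    exact t.2.2.eq.symm
  · have h1 : g * t.1.1 * g⁻¹ = t.1.1 := congrArg Subtype.val t.2
    rw [mul_inv_eq_iff_eq_mul] at h1
    exact h1.symm

theorem isCharacter_nfix {H : Type} [Group H] [Finite H] (W : H) :
    IsCharacter H (fun g => ((nfix W g : ℕ) : ℂ)) := by
  have h1 : IsCharacter H (pc H (Cl W)) := isCharacter_pc (G := H) (Cl W)
  have h2 : (fun g => ((nfix W g : ℕ) : ℂ)) = pc H (Cl W) := by
    funext g
    rw [nfix_eq]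
    rfl
  rw [h2]
  exact h1

/-- **`θ` is a generalized character**, from the numbers of the conjugates of `W` commuting with the elements of 2-power
order. -/
theorem gen_theta_of {H : Type} [Group H] [Finite H] {ty : H → Ty} (T : Table H ty) {β : H → ℂ}
    (hβ : IsGeneralizedCharacter H β) (hbv : ∀ g, ty g ≠ .sing → β g = ((ty g).b : ℂ)) (W : H)
    (hW : ∀ g, two (ty g) = true → (nfix W g : ℤ) = rh (ty g)) :
    IsGeneralizedCharacter H (fun g => ((ty g).th : ℂ)) := by
  refine gen_theta T hβ hbv (ρ := fun g => ((nfix W g : ℕ) : ℂ))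
    (Brauer.isGeneralizedCharacter_of_isCharacter (isCharacter_nfix W)) fun g hg => ?_
  have h1 := hW g hg
  exact_mod_cast congrArg (fun n : ℤ => (n : ℂ)) h1

/-- the numbers are invariant under isomorphism -/
theorem nfix_map {H K : Type} [Group H] [Group K] (e : H ≃* K) (W g : H) : nfix (e W) (e g) = nfix W g := by
  refine (Nat.card_congr (α := {t : H // IsConj W t ∧ Commute t g}) (β := {t : K // IsConj (e W) t ∧ Commute t (e g)})
    { toFun := fun t => ⟨e t.1, ?_, ?_⟩
      invFun := fun t => ⟨e.symm t.1, ?_, ?_⟩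
      left_inv := fun t => Subtype.ext (e.symm_apply_apply _)
      right_inv := fun t => Subtype.ext (e.apply_symm_apply _) }).symm
  · exact e.toMonoidHom.map_isConj t.2.1
  · exact t.2.2.map e.toMonoidHom
  · have h1 := e.symm.toMonoidHom.map_isConj t.2.1
    have h2 : e.symm.toMonoidHom (e W) = W := e.symm_apply_apply W
    rw [h2] at h1
    exact h1
  · have h1 := t.2.2.map e.symm.toMonoidHom
    have h2 : e.symm.toMonoidHom (e g) = g := e.symm_apply_apply g
    rw [h2] at h1
    exact h1

end Cfsg.Agent.H741.M23.Gen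
end

-- part: H653/HNE/RhoB
section
/-!
# The permutation character of `HN` on the class of `W0` at 2-elements (helper653)

`B2 g` is the number of conjugates of `W0` commuting with `g`: 74064375, 51975, 8311, 71, 75, 151, 5, 3 on the classes
1, 2A, 2B, 4A, 4B, 4C, 8A, 8B.
-/

set_option autoImplicit false
set_option maxRecDepth 100000

namespace Cfsg.Agent.H653.HNE

open Subgroup
open Cfsg.Agent.HN.XWords Cfsg.Agent.HN.XStruct Cfsg.Agent.KFacts.HN
open Cfsg.Agent.KFacts.HN.Classes (card_HN)

section

variable {G : Type*} [Group G] [Finite G]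

/-- commuting pairs -/
theorem card_pairs (a b : G) :
    Nat.card {p : G × G // IsConj a p.1 ∧ IsConj b p.2 ∧ Commute p.2 p.1} =
      Nat.card {g : G // IsConj a g} * Nat.card {t : G // IsConj b t ∧ Commute t a} := by
  classical
  have hf : ∀ g : {g : G // IsConj a g}, Nat.card {t : G // IsConj b t ∧ Commute t g} =
      Nat.card {t : G // IsConj b t ∧ Commute t a} := by
    rintro ⟨g, hg⟩
    obtain ⟨c, rfl⟩ := isConj_iff.1 hg
    exact card_comm_conj b a c
  have e : {p : G × G // IsConj a p.1 ∧ IsConj b p.2 ∧ Commute p.2 p.1} ≃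
      Σ g : {g : G // IsConj a g}, {t : G // IsConj b t ∧ Commute t g} :=
    { toFun := fun p => ⟨⟨p.1.1, p.2.1⟩, ⟨p.1.2, p.2.2⟩⟩
      invFun := fun p => ⟨(p.1.1, p.2.1), p.1.2, p.2.2⟩
      left_inv := fun _ => rfl
      right_inv := fun _ => rfl }
  have := Fintype.ofFinite {g : G // IsConj a g}
  rw [Nat.card_congr e, Nat.card_sigma, Fintype.sum_congr _ _ hf, Finset.sum_const, Finset.card_univ,
    ← Nat.card_eq_fintype_card, smul_eq_mul]

/-- **double counting** -/
theorem double (a b : G) :
    Nat.card {t : G // IsConj b t ∧ Commute t a} * Nat.card (centralizer ({b} : Set G)) =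
      Nat.card (centralizer ({a} : Set G)) * Nat.card {g : G // IsConj a g ∧ Commute g b} := by
  have h1 := card_pairs a b
  have h2 := card_pairs b a
  have h3 : Nat.card {p : G × G // IsConj a p.1 ∧ IsConj b p.2 ∧ Commute p.2 p.1} =
      Nat.card {p : G × G // IsConj b p.1 ∧ IsConj a p.2 ∧ Commute p.2 p.1} :=
    Nat.card_congr
      { toFun := fun p => ⟨(p.1.2, p.1.1), p.2.2.1, p.2.1, p.2.2.2.symm⟩
        invFun := fun p => ⟨(p.1.2, p.1.1), p.2.2.1, p.2.1, p.2.2.2.symm⟩
        left_inv := fun _ => rfl
        right_inv := fun _ => rfl }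
  rw [h1, h2] at h3
  have ha := card_conj a
  have hb := card_conj b
  have hG : 0 < Nat.card G := Nat.card_pos
  set na := Nat.card {g : G // IsConj a g}
  set nb := Nat.card {g : G // IsConj b g}
  set ca := Nat.card (centralizer ({a} : Set G))
  set cb := Nat.card (centralizer ({b} : Set G))
  set x := Nat.card {t : G // IsConj b t ∧ Commute t a}
  set y := Nat.card {g : G // IsConj a g ∧ Commute g b}
  have h4 : Nat.card G * (x * cb) = Nat.card G * (ca * y) := by
    calc Nat.card G * (x * cb) = na * ca * (x * cb) := by rw [ha]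
      _ = ca * (na * x) * cb := by ring
      _ = ca * (nb * y) * cb := by rw [h3]
      _ = ca * y * (nb * cb) := by ring
      _ = Nat.card G * (ca * y) := by rw [hb]; ring
  exact Nat.eq_of_mul_eq_mul_left hG h4

end

/-- **the induced character formula** -/
theorem B2_formula (a : Cfsg.Spor.HN) : B2 a * 3686400 =
    Nat.card (centralizer ({a} : Set Cfsg.Spor.HN)) * Nat.card {x : PP // IsConj a (x : Cfsg.Spor.HN)} := by
  have h := double a W0
  have h1 : Nat.card {x : PP // IsConj a (x : Cfsg.Spor.HN)} =
      Nat.card {g : Cfsg.Spor.HN // IsConj a g ∧ Commute g W0} :=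
    Nat.card_congr
      { toFun := fun x => ⟨x.1, x.2, mem_PP.1 x.1.2⟩
        invFun := fun g => ⟨⟨g.1, mem_PP.2 g.2.2⟩, g.2.1⟩
        left_inv := fun _ => rfl
        right_inv := fun _ => rfl }
  have h2 : Nat.card (centralizer ({W0} : Set Cfsg.Spor.HN)) = 3686400 := card_PP
  rw [h2] at h
  rw [h1]
  exact h

theorem B2_one : B2 1 = 74064375 := by
  have h := card_conj W0
  have h2 : Nat.card (centralizer ({W0} : Set Cfsg.Spor.HN)) = 3686400 := card_PP
  rw [h2, card_HN] at h
  have h3 : Nat.card {t : Cfsg.Spor.HN // IsConj W0 t} = 74064375 :=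
    Nat.eq_of_mul_eq_mul_right (by norm_num) (h.trans (by norm_num : (273030912000000 : ℕ) = 74064375 * 3686400))
  have h1 : B2 1 = Nat.card {t : Cfsg.Spor.HN // IsConj W0 t} :=
    Nat.card_congr
      { toFun := fun x => ⟨x.1, x.2.1⟩
        invFun := fun g => ⟨g.1, g.2, Commute.one_right _⟩
        left_inv := fun _ => rfl
        right_inv := fun _ => rfl }
  rw [h1, h3]

theorem canc {a b c : ℕ} (h : a * 3686400 = c) (h1 : c = b * 3686400) : a = b :=
  Nat.eq_of_mul_eq_mul_right (by norm_num) (h.trans h1)

theorem B2_2A' : B2 tA = 51975 := by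
  have h := B2_formula tA
  have h1 : Nat.card (centralizer ({tA} : Set Cfsg.Spor.HN)) = 177408000 :=
    Cfsg.Agent.KFacts.HN.Classes.card_centralizer_τ
  rw [n2A, h1] at h
  exact canc h (by norm_num)

theorem B2_2B' : B2 W0 = 8311 := by
  have h := B2_formula W0
  have h1 : Nat.card (centralizer ({W0} : Set Cfsg.Spor.HN)) = 3686400 := card_PP
  rw [n2B, h1] at h
  exact canc h (by norm_num)

theorem B2_8B' : B2 R8B = 3 := by
  have h := B2_formula R8B
  have h1 : Nat.card {x : PP // IsConj R8B (x : Cfsg.Spor.HN)} = 172800 := by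
    rw [← nFourB]
    exact Nat.card_congr (Equiv.subtypeEquivRight fun x => ⟨conj_four_8B, conj_eight⟩)
  rw [h1, card_8B] at h
  exact canc h (by norm_num)

theorem card_4A_PP : Nat.card {x : PP // IsConj R4A (x : Cfsg.Spor.HN)} = 17040 := by
  have h := B2_formula R4A
  rw [B2_4A, card_4A] at h
  have h1 : 15360 * Nat.card {x : PP // IsConj R4A (x : Cfsg.Spor.HN)} = 15360 * 17040 := h.symm.trans (by norm_num)
  exact Nat.eq_of_mul_eq_mul_left (by norm_num) h1

theorem card_4C_PP : Nat.card {x : PP // IsConj R4C (x : Cfsg.Spor.HN)} = 144960 := by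
  classical
  have h0 := card_4A_PP
  have h1 := nSqB
  have h2 : Nat.card {x : PP // IsConj W0 ((x : Cfsg.Spor.HN) ^ 2)} =
      Nat.card ({x : PP // IsConj R4A (x : Cfsg.Spor.HN)} ⊕ {x : PP // IsConj R4C (x : Cfsg.Spor.HN)}) := by
    have hd : Disjoint (fun x : PP => IsConj R4A (x : Cfsg.Spor.HN)) (fun x : PP => IsConj R4C (x : Cfsg.Spor.HN)) :=
      disjoint_iff_inf_le.2 fun x h => not_isConj_4A_4C (IsConj.trans h.1 (IsConj.symm h.2))
    rw [← Nat.card_congr (subtypeOrEquiv _ _ hd)]
    exact Nat.card_congr (Equiv.subtypeEquivRight fun x => ⟨conj_four, fun h => h.elim conj_sq_4A conj_sq_4C⟩)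
  rw [Nat.card_sum, h0, h1] at h2
  have h3 : 17040 + Nat.card {x : PP // IsConj R4C (x : Cfsg.Spor.HN)} = 17040 + 144960 := h2.symm
  exact Nat.add_left_cancel h3

theorem B2_4C' : B2 R4C = 151 := by
  have h := B2_formula R4C
  rw [card_4C_PP, card_4C] at h
  exact canc h (by norm_num)

/-- class 4B -/
theorem B2_4B' {a : Cfsg.Spor.HN} (hc : Nat.card (centralizer ({a} : Set Cfsg.Spor.HN)) = 5760)
    (h4 : ∀ g : Cfsg.Spor.HN, IsConj a g ↔ IsConj tA (g ^ 2)) : B2 a = 75 := by
  have h := B2_formula a
  have h1 : Nat.card {x : PP // IsConj a (x : Cfsg.Spor.HN)} = 48000 := by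
    rw [← nSqA]
    exact Nat.card_congr (Equiv.subtypeEquivRight fun x => h4 x)
  rw [h1, hc] at h
  exact canc h (by norm_num)

/-- class 8A -/
theorem B2_8A' {a : Cfsg.Spor.HN} (hc : Nat.card (centralizer ({a} : Set Cfsg.Spor.HN)) = 80)
    (h8 : ∀ g : Cfsg.Spor.HN, IsConj a g ↔ IsConj tA (g ^ 4)) : B2 a = 5 := by
  have h := B2_formula a
  have h1 : Nat.card {x : PP // IsConj a (x : Cfsg.Spor.HN)} = 230400 := by
    rw [← nFourA]
    exact Nat.card_congr (Equiv.subtypeEquivRight fun x => h8 x)
  rw [h1, hc] at h
  exact canc h (by norm_num)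

/-! ### Final form -/

theorem B2_2A {g : Cfsg.Spor.HN} (h : IsConj tA g) : B2 g = 51975 := by rw [← B2_conj h, B2_2A']
theorem B2_2B {g : Cfsg.Spor.HN} (h : IsConj W0 g) : B2 g = 8311 := by rw [← B2_conj h, B2_2B']
theorem B2_4Ag {g : Cfsg.Spor.HN} (h : IsConj R4A g) : B2 g = 71 := by rw [← B2_conj h, B2_4A]
theorem B2_4C {g : Cfsg.Spor.HN} (h : IsConj R4C g) : B2 g = 151 := by rw [← B2_conj h, B2_4C']
theorem B2_8B {g : Cfsg.Spor.HN} (h : IsConj R8B g) : B2 g = 3 := by rw [← B2_conj h, B2_8B']

end Cfsg.Agent.H653.HNE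
end

-- part: H164/M23/ThetaHN
section
/-!
# The character of degree `2375000` of `HN` given by its table (helper164)

`T = HN` in `C_M(u) = ⟨u⟩ × T`, `u ∈ 5A`.  The `15` classes of `T` on which the character does not vanish are listed in
the order of the `u`-classes `5A, 10A, 10B, 15A, 15B, 20A, 30B, 30C, 35A, 45A, 55A, 60B, 70A, 105A, 110A` of the Monster,
that is `1A, 2A, 2B, 3A, 3B, 4A, 6A, 6C, 7A, 9A, 11A, 12A?, 14A, 21A, 22A` of `HN`.

* `irr` (H7) : the table function is an irreducible character if it is a generalized character;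
* `inner` (H8) : the inner product of `s ↦ (V (u s)^4 + 3 V ((u s)^2)^2 - 4 V (u s) V ((u s)^3)) / 12` with it is `1`.
-/

set_option autoImplicit false

open Cfsg
open Cfsg.Agent.Characters.Core
open scoped ComplexConjugate

namespace Cfsg.Agent.H164.M23.ThetaHN

open Cfsg.Agent.H164.M23.Theta

universe v

/-- the orders of the centralizers in `T` -/
def n : Fin 15 → ℕ :=
  ![273030912000000, 177408000, 3686400, 544320, 29160, 15360, 1440, 576, 420, 27, 22, 48, 28, 21, 22]

/-- the values of the character -/
def th : Fin 15 → ℤ := ![2375000, -1000, 600, -190, 80, 40, -10, -6, 5, -1, 1, -2, 1, -1, 1]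

/-- `V (u s)`, `V` the character of degree `196883` of the Monster -/
def v1 : Fin 15 → ℤ := ![133, 21, 5, 7, -2, 5, 3, -1, 0, 1, 1, -1, 0, 0, -1]

/-- `V ((u s)^2)` -/
def v2 : Fin 15 → ℤ := ![133, 133, 133, 7, -2, 5, 7, 7, 0, 1, 1, -1, 0, 0, 1]

/-- `V ((u s)^3)` -/
def v3 : Fin 15 → ℤ := ![133, 21, 5, 133, 133, 5, 21, 5, 0, -2, 1, 5, 0, 0, -1]

/-- the norm is `1` -/
theorem norm_sum : ∑ i, (th i : ℂ) * th i / n i = 1 := by
  have h : ∑ i, (th i : ℚ) * th i / n i = 1 := by decide +kernel
  have h2 : ((∑ i, (th i : ℚ) * th i / n i : ℚ) : ℂ) = ((1 : ℚ) : ℂ) := by rw [h]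
  push_cast at h2
  exact h2

/-- the inner product is `1` -/
theorem inner_sum : ∑ i, ((v1 i : ℂ) ^ 4 + 3 * (v2 i : ℂ) ^ 2 - 4 * ((v1 i : ℂ) * v3 i)) / 12 * th i / n i = 1 := by
  have h : ∑ i, ((v1 i : ℚ) ^ 4 + 3 * (v2 i : ℚ) ^ 2 - 4 * ((v1 i : ℚ) * v3 i)) / 12 * th i / n i = 1 := by
    decide +kernel
  have h2 : ((∑ i, ((v1 i : ℚ) ^ 4 + 3 * (v2 i : ℚ) ^ 2 - 4 * ((v1 i : ℚ) * v3 i)) / 12 * th i / n i : ℚ) : ℂ) =
      ((1 : ℚ) : ℂ) := by rw [h]
  push_cast at h2
  exact h2

variable {T : Type v} [Group T]

/-- the norm of the table function is `1` -/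
theorem norm_one [Fintype T] {s : Fin 15 → T} (hs : ∀ i j, IsConj (s i) (s j) → i = j)
    (hn : ∀ i, Nat.card (Subgroup.centralizer ({s i} : Set T)) = n i) :
    classInner (fn s th) (fn s th) = 1 := by
  rw [norm_fn hs hn]
  exact norm_sum

/-- **(H7)** the table function is an irreducible character if it is a generalized character -/
theorem irr_fn [Fintype T] {s : Fin 15 → T} (hs : ∀ i j, IsConj (s i) (s j) → i = j)
    (hn : ∀ i, Nat.card (Subgroup.centralizer ({s i} : Set T)) = n i) (h0 : s 0 = 1)
    (hg : IsGeneralizedCharacter T (fn s th)) : IsIrrCharacter T (fn s th) := by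
  refine irr_of_gen (d := 2375000) hg (norm_one hs hn) ?_
  rw [← h0, fn_apply hs]
  norm_num [th]

/-- **(H7)** for a function `θ` with these values -/
theorem irr [Fintype T] {s : Fin 15 → T} (hs : ∀ i j, IsConj (s i) (s j) → i = j)
    (hn : ∀ i, Nat.card (Subgroup.centralizer ({s i} : Set T)) = n i) (h0 : s 0 = 1) {θ : T → ℂ}
    (hg : IsGeneralizedCharacter T θ) (hv : ∀ i, θ (s i) = th i) (hz : ∀ x, (∀ i, ¬ IsConj (s i) x) → θ x = 0) :
    IsIrrCharacter T θ := by
  have hθ : IsClassFunction T θ := by
    obtain ⟨χ, ψ, hχ, hψ, rfl⟩ := hg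
    intro g h
    rw [Pi.sub_apply, Pi.sub_apply, isCharacter_isClassFunction hχ, isCharacter_isClassFunction hψ]
  have h1 := eq_fn hs hθ hv hz
  rw [h1] at hg ⊢
  exact irr_fn hs hn h0 hg

/-- **(H8)** -/
theorem inner {G : Type v} [Group G] {T : Subgroup G} [Fintype T] {u : G} (hu : ∀ x ∈ T, x * u * x⁻¹ = u)
    {s : Fin 15 → T} (hs : ∀ i j, IsConj (s i) (s j) → i = j)
    (hn : ∀ i, Nat.card (Subgroup.centralizer ({s i} : Set T)) = n i) {θ : T → ℂ} (hθ : IsClassFunction T θ)
    (hv : ∀ i, θ (s i) = th i) (hz : ∀ x, (∀ i, ¬ IsConj (s i) x) → θ x = 0) {V : G → ℂ} (hV : IsClassFunction G V)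
    (h1 : ∀ i, V (u * s i) = v1 i) (h2 : ∀ i, V ((u * s i) ^ 2) = v2 i) (h3 : ∀ i, V ((u * s i) ^ 3) = v3 i) :
    classInner (fun x : T => (V (u * x) ^ 4 + 3 * V ((u * x) ^ 2) ^ 2 - 4 * (V (u * x) * V ((u * x) ^ 3))) / 12) θ =
      ((1 : ℤ) : ℂ) := by
  have hc : ∀ x y : T, u * ((y * x * y⁻¹ : T) : G) = y * (u * x) * (y : G)⁻¹ := by
    intro x y
    have h4 : (y : G) * u = u * y := by
      have h5 := hu y y.2
      calc (y : G) * u = (y * u * (y : G)⁻¹) * y := by group
        _ = u * y := by rw [h5]
    push_cast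
    calc u * (y * x * (y : G)⁻¹) = (u * y) * x * (y : G)⁻¹ := by group
      _ = (y * u) * x * (y : G)⁻¹ := by rw [h4]
      _ = y * (u * x) * (y : G)⁻¹ := by group
  have hp : ∀ (k : ℕ) (x y : T), V ((u * ((y * x * y⁻¹ : T) : G)) ^ k) = V ((u * x) ^ k) := by
    intro k x y
    rw [hc, conj_pow, hV]
  have hf : IsClassFunction T
      (fun x : T => (V (u * x) ^ 4 + 3 * V ((u * x) ^ 2) ^ 2 - 4 * (V (u * x) * V ((u * x) ^ 3))) / 12) := by
    intro x y
    have h4 := hp 1 x y
    have h5 := hp 2 x y
    have h6 := hp 3 x y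
    rw [pow_one, pow_one] at h4
    simp only [h4, h5, h6]
  rw [eq_fn hs hθ hv hz, inner_fn hn hf]
  simp only [h1, h2, h3]
  rw [inner_sum, Int.cast_one]

end Cfsg.Agent.H164.M23.ThetaHN
end

-- part: H164/M23/ThetaTab
section
/-!
# (M,23): H7 and H8 from the class table of `HN` (helper164)

`Table H ty` : the class table (helper651).  `F ty g = θ`-value of the type of `g`.

* `inner_ty` : the inner product of a function of the type with `F ty`;
* `irr_ty` (H7) : `F ty` is irreducible if it is a generalized character;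
* `schur_ty` (H8) : `⟨S_22(β), F ty⟩ = 1`, `β y = V (u y)`.
-/

set_option autoImplicit false

open Cfsg
open Cfsg.Agent.Characters.Core
open scoped ComplexConjugate

namespace Cfsg.Agent.H164.M23.ThetaTab

open Cfsg.Agent.H651.HNF

universe v

/-- the table of an isomorphic group -/
theorem Table.transfer {H T : Type} [Group H] [Group T] {ty : H → Ty} (h : Table H ty) (e : T ≃* H) :
    Table T (fun g => ty (e g)) := by
  have ho : ∀ g : T, orderOf (e g) = orderOf g := fun g => orderOf_injective e.toMonoidHom e.injective g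
  have hconj : ∀ g k : T, IsConj (e g) (e k) ↔ IsConj g k := by
    intro g k
    rw [isConj_iff, isConj_iff]
    constructor
    · rintro ⟨c, hc⟩
      refine ⟨e.symm c, e.injective ?_⟩
      rw [map_mul, map_mul, map_inv, e.apply_symm_apply, hc]
    · rintro ⟨c, hc⟩
      exact ⟨e c, by rw [← map_mul, ← map_inv, ← map_mul, hc]⟩
  refine ⟨?_, ?_, ?_, ?_, ?_, ?_, ?_, ?_, ?_⟩
  · rw [Nat.card_congr e.toEquiv, h.card]
  · intro g
    rw [h.sing, ho]
  · intro g hg
    rw [← ho]
    exact h.ord _ hg
  · intro g hg
    rw [← h.cent _ hg]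
    refine Nat.card_congr (Equiv.subtypeEquiv e.toEquiv fun x => ?_)
    simp only [Subgroup.mem_centralizer_singleton_iff]
    constructor
    · intro hx
      change e x * e g = e g * e x
      rw [← map_mul, hx, map_mul]
    · intro hx
      refine e.injective ?_
      rw [map_mul, map_mul]
      exact hx
  · intro g k hgk
    exact h.inv _ _ ((hconj g k).2 hgk)
  · intro g k hgk h1 h2
    exact (hconj g k).1 (h.conj _ _ hgk h1 h2)
  · intro g p hp hg
    rw [map_pow]
    exact h.pow _ p hp hg
  · intro g hg m hm
    rw [map_pow]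
    exact h.real _ hg m (by rw [ho]; exact hm)
  · intro t ht
    rw [← h.num t ht]
    exact Nat.card_congr (Equiv.subtypeEquiv e.toEquiv fun x => Iff.rfl)

/-- `θ` as a function of the type -/
noncomputable def F {H : Type} (ty : H → Ty) : H → ℂ := fun g => ((ty g).th : ℂ)

end Cfsg.Agent.H164.M23.ThetaTab
end

-- part: H741/M23/RhoHN
section
/-!
# `θ` is a generalized character of the Harada-Norton group (helper741, (M,23) of S4929)

`gen_theta_iso` : for a group isomorphic to `Spor.HN` with a class table.
-/

set_option autoImplicit false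

open Cfsg

namespace Cfsg.Agent.H741.M23.Gen

open Cfsg.Agent.Characters Cfsg.Agent.H651.HNF Cfsg.Agent.H653.HNE
open Cfsg.Agent.HN.XWords Cfsg.Agent.HN.XStruct Cfsg.Agent.KFacts.HN

theorem typ : ∀ s : Ty, s ≠ .sing → (s.ord = 1 → s = .c1) ∧ (s.ord = 2 → s.cen = 177408000 → s = .c2A) ∧
    (s.ord = 2 → s.cen = 3686400 → s = .c2B) ∧ (s.ord = 4 → s.cen = 15360 → s = .c4A) ∧
    (s.ord = 4 → s.cen = 3840 → s = .c4C) ∧ (s.ord = 8 → s.cen = 64 → s = .c8B) := by decide +kernel

section HN

variable {ty : Cfsg.Spor.HN → Ty} (T : Table Cfsg.Spor.HN ty)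
include T

theorem ne_sing {x : Cfsg.Spor.HN} {n : ℕ} (ho : orderOf x = n) (hn : ¬ 5 ∣ n) : ty x ≠ .sing := by
  intro h
  rw [T.sing, ho] at h
  exact hn h

theorem ty_one : ty (1 : Cfsg.Spor.HN) = .c1 := by
  have h0 : ty (1 : Cfsg.Spor.HN) ≠ .sing := ne_sing T orderOf_one (by norm_num)
  exact (typ _ h0).1 (by rw [← T.ord _ h0, orderOf_one])

omit T in
theorem orderOf_tA : orderOf tA = 2 := orderOf_eq_prime tA_sq tA_ne

theorem ty_tA : ty tA = .c2A := by
  have h0 : ty tA ≠ .sing := ne_sing T orderOf_tA (by norm_num)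
  exact (typ _ h0).2.1 (by rw [← T.ord _ h0, orderOf_tA])
    (by rw [← T.cent _ h0]; exact Cfsg.Agent.KFacts.HN.Classes.card_centralizer_τ)

theorem ty_W0 : ty W0 = .c2B := by
  have h0 : ty W0 ≠ .sing := ne_sing T orderOf_W0 (by norm_num)
  exact (typ _ h0).2.2.1 (by rw [← T.ord _ h0, orderOf_W0]) (by rw [← T.cent _ h0]; exact card_PP)

theorem ty_R4A : ty R4A = .c4A := by
  have h0 : ty R4A ≠ .sing := ne_sing T orderOf_R4A (by norm_num)
  exact (typ _ h0).2.2.2.1 (by rw [← T.ord _ h0, orderOf_R4A]) (by rw [← T.cent _ h0]; exact card_4A)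

theorem ty_R4C : ty R4C = .c4C := by
  have h0 : ty R4C ≠ .sing := ne_sing T orderOf_R4C (by norm_num)
  exact (typ _ h0).2.2.2.2.1 (by rw [← T.ord _ h0, orderOf_R4C]) (by rw [← T.cent _ h0]; exact card_4C)

theorem ty_R8B : ty R8B = .c8B := by
  have h0 : ty R8B ≠ .sing := ne_sing T orderOf_R8B (by norm_num)
  exact (typ _ h0).2.2.2.2.2 (by rw [← T.ord _ h0, orderOf_R8B]) (by rw [← T.cent _ h0]; exact card_8B)

/-- an element of the same type as a representative -/
theorem conj_of {a g : Cfsg.Spor.HN} {s : Ty} (ha : ty a = s) (hg : ty g = s) (h1 : s ≠ .sing) (h2 : s ≠ .c19) :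
    IsConj a g := T.conj a g (ha.trans hg.symm) (by rw [ha]; exact h1) (by rw [ha]; exact h2)

theorem sq_4B {g : Cfsg.Spor.HN} (hg : ty g = .c4B) : IsConj tA (g ^ 2) := by
  have h1 : ty (g ^ 2) = .c2A := by
    rw [T.pow g 2 Nat.prime_two (by rw [hg]; decide), hg]
    rfl
  exact conj_of T (ty_tA T) h1 (by decide) (by decide)

theorem four_8A {g : Cfsg.Spor.HN} (hg : ty g = .c8A) : IsConj tA (g ^ 4) := by
  have h1 : ty (g ^ 2) = .c4B := by
    rw [T.pow g 2 Nat.prime_two (by rw [hg]; decide), hg]
    rfl
  have h2 := sq_4B T h1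
  rwa [← pow_mul] at h2

theorem nfix_HN : ∀ g, two (ty g) = true → (nfix W0 g : ℤ) = rh (ty g) := by
  intro g hg
  have hB : nfix W0 g = B2 g := rfl
  rw [hB]
  generalize hs : ty g = s at hg ⊢
  cases s <;> first | exact absurd hg (by decide) | skip
  · have h1 : IsConj 1 g := conj_of T (ty_one T) hs (by decide) (by decide)
    rw [← B2_conj h1, B2_one]
    rfl
  · rw [B2_2A (conj_of T (ty_tA T) hs (by decide) (by decide))]
    rfl
  · rw [B2_2B (conj_of T (ty_W0 T) hs (by decide) (by decide))]
    rfl
  · rw [B2_4Ag (conj_of T (ty_R4A T) hs (by decide) (by decide))]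
    rfl
  · have h1 := sq_4B T hs
    have h2 := Cfsg.Agent.H981.M23.HNTwoB.four h1
    rw [B2_4B' h2.2 fun h => ⟨fun h3 => sq_4B T ((T.inv _ _ h3).symm.trans hs), fun h3 =>
      h2.1.symm.trans (Cfsg.Agent.H981.M23.HNTwoB.four h3).1⟩]
    rfl
  · rw [B2_4C (conj_of T (ty_R4C T) hs (by decide) (by decide))]
    rfl
  · have h1 := four_8A T hs
    have h2 := Cfsg.Agent.H981.M23.HNTwoB.eight h1
    rw [B2_8A' h2.2 fun h => ⟨fun h3 => four_8A T ((T.inv _ _ h3).symm.trans hs), fun h3 =>
      h2.1.symm.trans (Cfsg.Agent.H981.M23.HNTwoB.eight h3).1⟩]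
    rfl
  · rw [B2_8B (conj_of T (ty_R8B T) hs (by decide) (by decide))]
    rfl

end HN

/-- **`θ` is a generalized character**: groups isomorphic to `Spor.HN`. -/
theorem gen_theta_iso {K : Type} [Group K] [Finite K] (e : K ≃* Cfsg.Spor.HN) {ty : K → Ty} (T : Table K ty)
    {β : K → ℂ} (hβ : IsGeneralizedCharacter K β) (hbv : ∀ g, ty g ≠ .sing → β g = ((ty g).b : ℂ)) :
    IsGeneralizedCharacter K (fun g => ((ty g).th : ℂ)) := by
  have T' : Table Cfsg.Spor.HN (fun g => ty (e.symm g)) := H164.M23.ThetaTab.Table.transfer T e.symm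
  refine gen_theta_of T hβ hbv (e.symm W0) fun g hg => ?_
  have h1 := nfix_map e (e.symm W0) g
  rw [e.apply_symm_apply] at h1
  have h2 := nfix_HN T' (e g) (by rw [e.symm_apply_apply]; exact hg)
  rw [← h1, h2, e.symm_apply_apply]

end Cfsg.Agent.H741.M23.Gen
end

private theorem dce_07435ac58cb9 : _root_.True := by
  try have : _root_.True := by simp only [_root_.Cfsg.Agent.H651.HNF.Ty.th.eq_13]
  try have : _root_.True := by simp only [_root_.Cfsg.Agent.H651.HNF.Ty.th.eq_20]
  try have : _root_.True := by simp only [_root_.Cfsg.Agent.H651.HNF.Ty.th.eq_10]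
  try have : _root_.True := by simp only [_root_.Cfsg.Agent.H651.HNF.Ty.th.eq_18]
  try have : _root_.True := by simp only [_root_.Cfsg.Agent.H651.HNF.Ty.th.eq_21]
  try have : _root_.True := by simp only [_root_.Cfsg.Agent.H651.HNF.Ty.th.eq_15]
  try have : _root_.True := by simp only [_root_.Cfsg.Agent.H651.HNF.Ty.th.eq_1]
  try have : _root_.True := by simp only [_root_.Cfsg.Agent.H651.HNF.Ty.th.eq_22]
  try have : _root_.True := by simp only [_root_.Cfsg.Agent.H651.HNF.Ty.th.eq_11]
  try have : _root_.True := by simp only [_root_.Cfsg.Agent.H164.M23.ThetaHN.th.eq_1]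
  try have : _root_.True := by simp only [_root_.Cfsg.Agent.H651.HNF.Ty.th.eq_8]
  try have : _root_.True := by simp only [_root_.Cfsg.Agent.H651.HNF.Ty.th.eq_4]
  try have : _root_.True := by simp only [_root_.Cfsg.Agent.H651.HNF.Ty.th.eq_23]
  try have : _root_.True := by simp only [_root_.Cfsg.Agent.H651.HNF.Ty.th.eq_16]
  try have : _root_.True := by simp only [_root_.Cfsg.Agent.H651.HNF.Ty.th.eq_24]
  try have : _root_.True := by simp only [_root_.Cfsg.Agent.H651.HNF.Ty.th.eq_2]
  try have : _root_.True := by simp only [_root_.Cfsg.Agent.H651.HNF.Ty.th.eq_17]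
  try have : _root_.True := by simp only [_root_.Cfsg.Agent.H651.HNF.Ty.th.eq_19]
  try have : _root_.True := by simp only [_root_.Cfsg.Agent.H651.HNF.Ty.th.eq_3]
  try have : _root_.True := by simp only [_root_.Cfsg.Agent.H651.HNF.Ty.th.eq_6]
  try have : _root_.True := by simp only [_root_.Cfsg.Agent.H651.HNF.Ty.th.eq_14]
  try have : _root_.True := by simp only [_root_.Cfsg.Agent.H651.HNF.Ty.th.eq_12]
  try have : _root_.True := by simp only [_root_.Cfsg.Agent.H651.HNF.Ty.th.eq_5]
  try have : _root_.True := by simp only [_root_.Cfsg.Agent.H651.HNF.Ty.th.eq_9]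
  try have : _root_.True := by simp only [_root_.Cfsg.Agent.H651.HNF.Ty.th.eq_7]
  exact _root_.True.intro
end
end
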